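import Cfsg.Agent.P3.Model
import Cfsg.Agent.L.Invol
import Cfsg.Agent.FT.P.PF09a_2

/-! Recognition of `PSL₂(q)` (`q` odd) and `PGL₂(q)` from a split Borel subgroup `P E` with `P`
abelian and an involution `τ` inverting `E`. -/

set_option autoImplicit false

namespace Cfsg.Agent.P3

open Cfsg Subgroup OnePoint Cfsg.Agent.L Cfsg.Agent.FT
open scoped Pointwise

universe u

theorem isSquare_mul_of_not {F : Type*} [Field F] [Finite F] (hodd : Odd (Nat.card F)) {x y : F}
    (hx : ¬ IsSquare x) (hy : ¬ IsSquare y) : IsSquare (x * y) := by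
  have := Fintype.ofFinite F
  have h2 := ringChar_ne_two_of_odd hodd
  have hx0 : x ≠ 0 := by rintro rfl; exact hx IsSquare.zero
  have hy0 : y ≠ 0 := by rintro rfl; exact hy IsSquare.zero
  rw [FiniteField.isSquare_iff h2 (mul_ne_zero hx0 hy0), mul_pow,
    (FiniteField.pow_dichotomy h2 hx0).resolve_left (by rwa [← FiniteField.isSquare_iff h2 hx0]),
    (FiniteField.pow_dichotomy h2 hy0).resolve_left (by rwa [← FiniteField.isSquare_iff h2 hy0])]
  simp

theorem exists_sq_add_sq {F : Type*} [Field F] [Finite F] (hodd : Odd (Nat.card F)) (n : F) :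
    ∃ x y : F, x * x + y * y = n := by
  have := Fintype.ofFinite F
  obtain ⟨a, b, h⟩ := FiniteField.exists_root_sum_quadratic (f := Polynomial.X ^ 2)
    (g := Polynomial.X ^ 2 - Polynomial.C n) (by simp) (Polynomial.degree_X_pow_sub_C two_pos n)
    (by rw [← Nat.card_eq_fintype_card]; exact Nat.odd_iff.1 hodd)
  refine ⟨a, b, ?_⟩
  simp only [Polynomial.eval_pow, Polynomial.eval_X, Polynomial.eval_sub, Polynomial.eval_C] at h
  linear_combination h

/-- The functional equations satisfied by the involution swapping `0` and `∞` force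
`T x = -s²/x`. -/
theorem exists_inv_formula {F : Type*} [Field F] [Finite F] (hodd : Odd (Nat.card F)) (T : F → F)
    (h0 : ∀ x, x ≠ 0 → T x ≠ 0) (h1 : ∀ x, x ≠ 0 → T (T x) = x)
    (h2 : ∀ a, a ≠ 0 → ∀ x, x ≠ 0 → a * a * T (a * a * x) = T x)
    (h3 : ∀ b, b ≠ 0 → ∃ a, a ≠ 0 ∧ T b = -(a * a) * T (-T (-b)) ∧
      ∀ y, y ≠ 0 → T y + b ≠ 0 → T (T y + b) = T b + a * a * T (y - T (-b))) :
    ∃ s, s ≠ 0 ∧ ∀ x, x ≠ 0 → T x = -(s * s) / x := by
  have hc : ∀ a, a ≠ 0 → ∀ x, x ≠ 0 → (a * a * x) * T (a * a * x) = x * T x := fun a ha x hx => by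
    rw [← h2 a ha x hx]; ring
  -- it suffices to show that `x * T x` is constant and minus a square
  suffices h : (∀ x, x ≠ 0 → x * T x = T 1) ∧ IsSquare (-T 1) by
    obtain ⟨h4, s, hs⟩ := h
    have hs0 : s ≠ 0 := by rintro rfl; exact h0 1 one_ne_zero (by simpa using hs)
    refine ⟨s, hs0, fun x hx => ?_⟩
    rw [← hs, neg_neg, ← h4 x hx]; field_simp
  have hsq : ∀ x, x ≠ 0 → IsSquare x → x * T x = T 1 := by
    rintro x hx ⟨a, rfl⟩
    have := hc a (by rintro rfl; simp at hx) 1 one_ne_zero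
    simpa using this
  by_cases hm : IsSquare (-1 : F)
  · obtain ⟨i, hi⟩ := hm
    have hi0 : i ≠ 0 := by rintro rfl; simp at hi
    have hneg : ∀ x, x ≠ 0 → T (-x) = -T x := fun x hx => by
      have := h2 i hi0 x hx
      rw [← hi] at this
      simp only [neg_mul, one_mul] at this
      rw [← this, neg_neg]
    have key : ∀ a, a ≠ 0 → ∀ b, b ≠ 0 → a * a + b * b ≠ 0 →
        (a * a + b * b) * T (a * a + b * b) = T 1 := by
      intro a ha b hb hab
      have haa := mul_ne_zero ha ha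
      have hbb := mul_ne_zero hb hb
      obtain ⟨r, hr, e1, e2⟩ := h3 (b * b) hbb
      rw [hneg _ hbb, neg_neg, h1 _ hbb] at e1
      have e3 := e2 (T (a * a)) (h0 _ haa) (by rwa [h1 _ haa])
      rw [h1 _ haa, hneg _ hbb, sub_neg_eq_add] at e3
      have ea : T (a * a) = T 1 / (a * a) := by
        rw [← hsq _ haa ⟨a, rfl⟩]; field_simp
      have eb : T (b * b) = T 1 / (b * b) := by
        rw [← hsq _ hbb ⟨b, rfl⟩]; field_simp
      have eT : T 1 = -(r * r) * (b * b) * (b * b) := by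
        rw [← e1, eb]; field_simp
      have e4 : T (a * a) + T (b * b) = (i * r * b / a) * (i * r * b / a) * (a * a + b * b) := by
        rw [ea, eb, eT]; field_simp; linear_combination (a ^ 2 + b ^ 2) * hi
      have e5 := h2 (i * r * b / a) (by simp [hi0, hr, ha, hb]) _ hab
      rw [← e4] at e5
      set Z := T (a * a + b * b)
      set W := T (T (a * a) + T (b * b))
      have e6 : r * r * W = -(a * a) / (b * b) * Z := by
        rw [← e5]; field_simp; linear_combination -W * hi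
      rw [e6, eb] at e3
      field_simp at e3
      linear_combination e3
    refine ⟨fun x hx => ?_, ?_⟩
    · by_cases hxs : IsSquare x
      · exact hsq x hx hxs
      · obtain ⟨a, b, rfl⟩ := exists_sq_add_sq hodd x
        refine key a ?_ b ?_ hx
        · rintro rfl; exact hxs ⟨b, by simp⟩
        · rintro rfl; exact hxs ⟨a, by simp⟩
    · obtain ⟨r, hr, e1, -⟩ := h3 1 one_ne_zero
      rw [hneg _ one_ne_zero, neg_neg, h1 _ one_ne_zero] at e1
      exact ⟨r, by rw [e1]; ring⟩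
  · have hns : ∀ x, x ≠ 0 → ¬ IsSquare x → x * T x = -T (-1) := by
      intro x hx hxs
      obtain ⟨a, ha⟩ := isSquare_mul_of_not hodd hxs hm
      have ha0 : a ≠ 0 := by rintro rfl; simp [hx] at ha
      have := hc a ha0 (-1) (by simp)
      rw [← ha] at this
      simpa using this
    have hT : ∀ x, x ≠ 0 → T x * T (T x) = x * T x := fun x hx => by rw [h1 x hx, mul_comm]
    have hm1 : (-1 : F) ≠ 0 := by simp
    have main : ¬ IsSquare (T 1) := by
      intro hs1
      by_cases hs2 : IsSquare (-T (-1))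
      · obtain ⟨r, hr, e1, -⟩ := h3 1 one_ne_zero
        have hw : -T (-1) ≠ 0 := neg_ne_zero.2 (h0 _ hm1)
        have e2 := hsq _ hw hs2
        obtain ⟨w, hw'⟩ := hs2
        rw [hw'] at e1 e2 hw
        apply hm
        refine ⟨w / r, ?_⟩
        have := h0 _ hw
        rw [← e2] at e1
        field_simp
        apply mul_right_cancel₀ this
        linear_combination -e1
      · have e1 : IsSquare (T (-1)) := by simpa using isSquare_mul_of_not hodd hs2 hm
        have e2 := hsq _ (h0 _ hm1) e1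
        rw [hT _ hm1] at e2
        apply hs2
        rw [← e2] at hs1
        simpa using hs1
    have e1 := hns _ (h0 _ one_ne_zero) main
    rw [hT _ one_ne_zero, one_mul] at e1
    refine ⟨fun x hx => ?_, by simpa using isSquare_mul_of_not hodd main hm⟩
    by_cases hxs : IsSquare x
    · exact hsq x hx hxs
    · rw [hns x hx hxs, e1]

variable {G : Type u} [Group G]

/-- A subgroup acting semiregularly on more than half of `P` acts irreducibly. -/
theorem irred_of_fpf [Finite G] {P E : Subgroup G}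
    (hfpf : ∀ e ∈ E, e ≠ 1 → ∀ u ∈ P, Commute e u → u = 1)
    (hbig : Nat.card P < 2 * (Nat.card E + 1)) (Y : Subgroup G) (hY : Y ≤ P) (hEY : E ≤ 𝐍(Y)) :
    Y = ⊥ ∨ Y = P := by
  rw [or_iff_not_imp_left]
  intro hY0
  obtain ⟨⟨y, hy⟩, hy1⟩ := ne_bot_iff_exists_ne_one.1 hY0
  have hy1 : y ≠ 1 := fun h => hy1 (Subtype.ext h)
  let φ : Option E → Y := fun o => o.elim 1 fun e =>
    ⟨e * y * (e : G)⁻¹, (mem_normalizer_iff.1 (hEY e.2) y).1 hy⟩
  have hφ : Function.Injective φ := by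
    rintro (_ | a) (_ | b) h
    · rfl
    · exact absurd (congrArg Subtype.val h).symm (by simpa [φ] using hy1)
    · exact absurd (congrArg Subtype.val h) (by simpa [φ] using hy1)
    · have h1 : (a : G) * y * (a : G)⁻¹ = b * y * (b : G)⁻¹ := congrArg Subtype.val h
      by_contra hab
      refine hy1 (hfpf ((b : G)⁻¹ * a) (mul_mem (inv_mem b.2) a.2) ?_ y (hY hy) ?_)
      · intro h2; rw [inv_mul_eq_one] at h2; exact hab (congrArg Option.some (Subtype.ext h2.symm))
      · change (b : G)⁻¹ * a * y = y * ((b : G)⁻¹ * a)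
        calc (b : G)⁻¹ * a * y = (b : G)⁻¹ * (a * y * (a : G)⁻¹) * a := by group
          _ = y * ((b : G)⁻¹ * a) := by rw [h1]; group
  have h1 := Nat.card_le_card_of_injective φ hφ
  rw [Finite.card_option] at h1
  obtain ⟨m, hm⟩ := Subgroup.card_dvd_of_le hY
  apply eq_of_le_of_card_ge hY
  have hpos : 0 < Nat.card P := Nat.card_pos
  rcases m with _ | _ | m
  · omega
  · omega
  · nlinarith

/-- Coordinates on `G ⧸ P E`. -/
theorem exists_coords [Finite G] {P E : Subgroup G} {τ : G} (hP : IsMulCommutative P)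
    (hP1 : P ≠ ⊥) (hEP : E ≤ 𝐍(P)) (hfpf : ∀ e ∈ E, e ≠ 1 → ∀ u ∈ P, Commute e u → u = 1)
    (hbig : Nat.card P < 2 * (Nat.card E + 1)) (hτ : τ * τ = 1)
    (hinv : ∀ e ∈ E, τ * e * τ = e⁻¹) (hτB : ∀ u ∈ P, u ≠ 1 → τ * u * τ ∉ E ⊔ P)
    (hG : Nat.card G = Nat.card E * Nat.card P * (Nat.card P + 1)) :
    ∃ (F : Type) (_ : Field F) (_ : Fintype F) (ψ : G →* Equiv.Perm (OnePoint F)) (f χ : G → F),
      Nat.card F = Nat.card P ∧ Function.Injective ψ ∧
      (∀ z : F, ∃ u ∈ P, f u = z) ∧ (∀ e ∈ E, χ e ≠ 0) ∧ (∀ e ∈ E, χ e = 1 → e = 1) ∧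
      (∀ a ∈ E, ∀ b ∈ E, χ (a * b) = χ a * χ b) ∧
      (∀ g, ψ g ∞ = ∞ ↔ ∃ e ∈ E, ∃ u ∈ P, g = e * u) ∧
      (∀ u ∈ P, ∀ x : F, ψ u x = ((x + f u : F) : OnePoint F)) ∧
      (∀ e ∈ E, ∀ x : F, ψ e x = ((χ e * x : F) : OnePoint F)) ∧
      ψ τ ∞ = ((0 : F) : OnePoint F) ∧ ψ τ ((0 : F) : OnePoint F) = ∞ := by
  classical
  have hτi := inv_eq_self_of_mul_self hτ
  obtain ⟨p, hp, hpd⟩ := Nat.exists_prime_and_dvd ((one_lt_card_iff_ne_bot P).2 hP1).ne'
  have := Fact.mk hp
  obtain ⟨v₀, hv₀⟩ := exists_prime_orderOf_dvd_card' p hpd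
  have hv1 : (v₀ : G) ≠ 1 := fun h => by
    rw [show v₀ = 1 from Subtype.ext h, orderOf_one] at hv₀; exact hp.ne_one hv₀.symm
  have hEc : ∀ a ∈ E, ∀ b ∈ E, a * b = b * a := fun a ha b hb => commute_of_inverts hτ hinv ha hb
  obtain ⟨F₀, _, _, f₀, χ₀, a1, a2, a3, a4, a5, a6, a7, -⟩ := PF09a.exists_field (V := P) (U := E)
    (W := ⊥) hp hP hEP bot_le bot_le
    (by
      rw [commutator_eq_bot_iff_le_centralizer.2 fun a ha => mem_centralizer_iff.2 fun b hb =>
        hEc b hb a ha]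
      exact bot_le)
    (irred_of_fpf hfpf hbig) v₀.2 hv1 (by rw [← hv₀, ← coe_pow, pow_orderOf_eq_one]; rfl) bot_le
  let F : Type := Shrink.{0} F₀
  let ε : F₀ ≃+* F := (Shrink.ringEquiv.{0} F₀).symm
  have hF : Finite F := Finite.of_equiv _ ε.toEquiv
  let f : G → F := fun x => ε (f₀ x)
  let χ : G → F := fun x => ε (χ₀ x)
  have b1 : Nat.card F = Nat.card P := by
    rw [← a1, ← Nat.card_eq_fintype_card]; exact (Nat.card_congr ε.toEquiv).symm
  have b2 : ∀ z : F, ∃ u ∈ P, f u = z := fun z => by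
    obtain ⟨u, hu, e⟩ := a2 (ε.symm z)
    exact ⟨u, hu, by simp [f, e]⟩
  have b3 : ∀ x ∈ P, ∀ y ∈ P, f (x * y) = f x + f y := fun x hx y hy => by
    simp [f, a3 x hx y hy]
  have b4 : ∀ x ∈ P, f x = 0 ↔ x = 1 := fun x hx => by simp [f, a4 x hx]
  have b5 : ∀ x ∈ E, ∀ y ∈ E, χ (x * y) = χ x * χ y := fun x hx y hy => by
    simp [χ, a5 x hx y hy]
  have b6 : ∀ e ∈ E, χ e = 1 → e = 1 := fun e he h => by
    by_contra h1
    have h2 : χ₀ e = 1 := by simpa [χ] using h
    exact hv1 (hfpf e he h1 _ v₀.2 ((mem_centralizer_iff.1 ((a6 e he).1 h2) _ v₀.2).symm))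
  have b7 : ∀ v ∈ E, ∀ x ∈ P, f (v * x * v⁻¹) = χ v * f x := fun v hv x hx => by
    simp [f, χ, a7 v hv x hx]
  have b8 : ∀ e ∈ E, χ e ≠ 0 := fun e he h => by
    have := b7 e he _ v₀.2
    rw [h, zero_mul, b4 _ ((mem_normalizer_iff.1 (hEP he) _).1 v₀.2)] at this
    exact hv1 (by simpa using this)
  have finj : ∀ x ∈ P, ∀ y ∈ P, f x = f y → x = y := fun x hx y hy h => by
    have h1 := b3 _ (mul_mem hx (inv_mem hy)) _ hy
    rw [inv_mul_cancel_right, h, right_eq_add, b4 _ (mul_mem hx (inv_mem hy))] at h1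
    exact mul_inv_eq_one.1 h1
  set B := E ⊔ P with hB
  have hBN : B ≤ 𝐍(P) := sup_le hEP le_normalizer
  have hBdec : ∀ g, g ∈ B ↔ ∃ e ∈ E, ∃ u ∈ P, g = e * u := fun g => by
    constructor
    · intro hg
      have : g ∈ (E : Set G) * (P : Set G) := by
        rw [← coe_mul_of_left_le_normalizer_right E P hEP]; exact hg
      obtain ⟨e, he, u, hu, rfl⟩ := this
      exact ⟨e, he, u, hu, rfl⟩
    · rintro ⟨e, he, u, hu, rfl⟩
      exact mul_mem (mem_sup_left he) (mem_sup_right hu)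
  have hEP0 : E ⊓ P = ⊥ := eq_bot_iff.2 fun x hx => by
    by_contra h; exact h (hfpf x hx.1 h x hx.2 (Commute.refl x))
  have hcB : Nat.card B = Nat.card E * Nat.card P := H1.card_sup_of_inf_eq_bot hEP hEP0
  have hidx : Nat.card (G ⧸ B) = Nat.card P + 1 := by
    have := B.card_mul_index
    rw [hcB, hG] at this
    exact Nat.eq_of_mul_eq_mul_left (Nat.mul_pos Nat.card_pos Nat.card_pos) this
  let el : F → G := fun z => (b2 z).choose
  have helP : ∀ z, el z ∈ P := fun z => (b2 z).choose_spec.1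
  have helf : ∀ z, f (el z) = z := fun z => (b2 z).choose_spec.2
  have hel : ∀ y ∈ P, el (f y) = y := fun y hy => finj _ (helP _) _ hy (helf _)
  let β : OnePoint F → G ⧸ B := fun z => z.elim ((1 : G) : G ⧸ B) fun x => ((el x * τ : G) : G ⧸ B)
  have hτM : τ ∉ B := fun h0 =>
    hτB _ v₀.2 hv1 (mul_mem (mul_mem h0 (mem_sup_right v₀.2)) h0)
  have hβinj : Function.Injective β := by
    have h1 : ∀ x : F, β ∞ ≠ β x := by
      intro x h0
      simp only [β, elim_infty, elim_some, QuotientGroup.eq, inv_one, one_mul] at h0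
      exact hτM (by simpa using mul_mem (inv_mem (mem_sup_right (helP x))) h0)
    intro a b hab
    induction a using OnePoint.rec <;> induction b using OnePoint.rec
    · rfl
    · exact (h1 _ hab).elim
    · exact (h1 _ hab.symm).elim
    · rename_i x y
      simp only [β, elim_some, QuotientGroup.eq] at hab
      have : (el x)⁻¹ * el y = 1 := by
        by_contra h
        exact hτB _ (mul_mem (inv_mem (helP x)) (helP y)) h (by
          rw [mul_inv_rev, hτi] at hab; simpa [mul_assoc] using hab)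
      rw [inv_mul_eq_one] at this
      rw [← helf x, this, helf]
  have hOP : Finite (OnePoint F) := inferInstanceAs (Finite (Option F))
  have hβ : Function.Bijective β := by
    rw [Nat.bijective_iff_injective_and_card]
    refine ⟨hβinj, ?_⟩
    rw [hidx, ← b1]
    exact Finite.card_option
  let Bq : OnePoint F ≃ G ⧸ B := Equiv.ofBijective β hβ
  let ψ : G →* Equiv.Perm (OnePoint F) :=
    (Equiv.permCongrHom Bq.symm).toMonoidHom.comp (MulAction.toPermHom G (G ⧸ B))
  have hψ : ∀ g a b, ψ g a = b ↔ g • β a = β b := by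
    intro g a b
    change Bq.symm (g • Bq a) = b ↔ _
    rw [Equiv.symm_apply_eq]; rfl
  have hψB : ∀ g, ψ g ∞ = ∞ ↔ ∃ e ∈ E, ∃ u ∈ P, g = e * u := by
    intro g
    rw [hψ, ← hBdec]
    simp only [β, elim_infty, MulAction.Quotient.smul_mk, QuotientGroup.eq]
    simp
  have hψP : ∀ u ∈ P, ∀ x : F, ψ u x = ((x + f u : F) : OnePoint F) := by
    intro u hu x
    rw [hψ]
    simp only [β, elim_some, MulAction.Quotient.smul_mk, smul_eq_mul]
    have : el (x + f u) = u * el x := by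
      rw [← hel _ (mul_mem hu (helP x)), b3 _ hu _ (helP x), helf, add_comm]
    rw [this, mul_assoc]
  have hψE : ∀ e ∈ E, ∀ x : F, ψ e x = ((χ e * x : F) : OnePoint F) := by
    intro e he x
    rw [hψ]
    simp only [β, elim_some, MulAction.Quotient.smul_mk, smul_eq_mul, QuotientGroup.eq]
    have : el (χ e * x) = e * el x * e⁻¹ := by
      rw [← hel _ ((mem_normalizer_iff.1 (hEP he) _).1 (helP x)), b7 _ he _ (helP x), helf]
    have e1 : (e * (el x * τ))⁻¹ * (e * el x * e⁻¹ * τ) = τ⁻¹ * e⁻¹ * τ := by group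
    rw [this, e1, hτi, hinv _ (inv_mem he)]
    exact mem_sup_left (inv_mem (inv_mem he))
  have hψ1 : ψ τ ∞ = ((0 : F) : OnePoint F) := by
    rw [hψ]
    have : el 0 = 1 := by rw [← (b4 1 (one_mem P)).2 rfl, hel _ (one_mem P)]
    simp [β, this]
  have hψ2 : ψ τ ((0 : F) : OnePoint F) = ∞ := by
    rw [← hψ1, ← Equiv.Perm.mul_apply, ← map_mul, hτ, map_one, Equiv.Perm.one_apply]
  refine ⟨F, inferInstance, Fintype.ofFinite F, ψ, f, χ, b1, ?_, b2, b8, b6, b5, hψB, hψP, hψE,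
    hψ1, hψ2⟩
  rw [injective_iff_map_eq_one]
  intro g hg
  obtain ⟨e, he, u, hu, rfl⟩ := (hψB g).1 (by rw [hg]; rfl)
  have h2 : ∀ x : F, χ e * (x + f u) = x := by
    intro x
    have : ψ (e * u) x = x := by rw [hg]; rfl
    rw [map_mul, Equiv.Perm.mul_apply, hψP u hu, hψE e he] at this
    exact coe_injective this
  have h3 : f u = 0 := by
    have := h2 0
    rw [zero_add, mul_eq_zero] at this
    exact this.resolve_left (b8 e he)
  have h4 := h2 1
  rw [h3, add_zero, mul_one] at h4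
  rw [b6 e he h4, (b4 u hu).1 h3, mul_one]

theorem mem_of_coords {F : Type*} [Field F] {P E : Subgroup G} {τ : G}
    {ψ : G →* Equiv.Perm (OnePoint F)} {f : G → F} (h1 : ∀ z : F, ∃ u ∈ P, f u = z)
    (h2 : ∀ g, ψ g ∞ = ∞ ↔ ∃ e ∈ E, ∃ u ∈ P, g = e * u)
    (h3 : ∀ u ∈ P, ∀ x : F, ψ u x = ((x + f u : F) : OnePoint F))
    (h4 : ψ τ ((0 : F) : OnePoint F) = ∞) {R : Subgroup G} (hP : P ≤ R) (hE : E ≤ R) (hτ : τ ∈ R)
    (g : G) : g ∈ R := by
  have key : ∀ g, ψ g ∞ = ∞ → g ∈ R := fun g hg => by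
    obtain ⟨e, he, u, hu, rfl⟩ := (h2 g).1 hg
    exact mul_mem (hE he) (hP hu)
  generalize hz : ψ g ∞ = z
  induction z using OnePoint.rec
  · exact key g hz
  · rename_i z
    obtain ⟨u, hu, e⟩ := h1 (-z)
    have := key (τ * u * g) (by
      rw [map_mul, map_mul, Equiv.Perm.mul_apply, Equiv.Perm.mul_apply, hz, h3 u hu, e,
        add_neg_cancel, h4])
    rwa [R.mul_mem_cancel_left (mul_mem hτ (hP hu))] at this

theorem exists_fun_of_swap {F : Type*} [Field F] {σ : Equiv.Perm (OnePoint F)}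
    (h1 : σ ∞ = ((0 : F) : OnePoint F)) (h2 : σ ((0 : F) : OnePoint F) = ∞) :
    ∃ T : F → F, (∀ x, x ≠ 0 → T x ≠ 0) ∧ ∀ x : F, x ≠ 0 → σ x = (T x : F) := by
  have : ∀ x : F, ∃ y : F, x ≠ 0 → y ≠ 0 ∧ σ x = y := by
    intro x
    by_cases hx : x = 0
    · exact ⟨0, fun h => absurd hx h⟩
    generalize hz : σ x = z
    induction z using OnePoint.rec
    · rw [← h2] at hz
      exact absurd (coe_injective (σ.injective hz)) hx
    · rename_i y
      refine ⟨y, fun _ => ⟨?_, rfl⟩⟩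
      rintro rfl
      rw [← h1] at hz
      exact coe_ne_infty _ (σ.injective hz)
  choose T hT using this
  exact ⟨T, fun x hx => (hT x hx).1, fun x hx => (hT x hx).2⟩

/-- **Recognition of `PSL₂(q)`, `q` odd.** -/
theorem recog_PSL2 [Finite G] {P E : Subgroup G} {τ : G} (hP : IsMulCommutative P)
    (hP1 : P ≠ ⊥) (hEP : E ≤ 𝐍(P)) (hfpf : ∀ e ∈ E, e ≠ 1 → ∀ u ∈ P, Commute e u → u = 1)
    (hE : Nat.card P = 2 * Nat.card E + 1) (hτ : τ * τ = 1)
    (hinv : ∀ e ∈ E, τ * e * τ = e⁻¹) (hτB : ∀ u ∈ P, u ≠ 1 → τ * u * τ ∉ E ⊔ P)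
    (hG : Nat.card G = Nat.card E * Nat.card P * (Nat.card P + 1)) :
    ∃ (F : Type) (_ : Field F) (_ : Fintype F), Fintype.card F = Nat.card P ∧
      Nonempty (G ≃* Matrix.ProjectiveSpecialLinearGroup (Fin 2) F) := by
  classical
  obtain ⟨F, _, _, ψ, f, χ, hc, hψ, hf, hχ0, hχ1, hχm, hB, hψP, hψE, hτ1, hτ2⟩ :=
    exists_coords hP hP1 hEP hfpf (by omega) hτ hinv hτB hG
  have hodd : Odd (Nat.card F) := by rw [hc, hE]; exact odd_two_mul_add_one _
  have hch := ringChar_ne_two_of_odd hodd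
  have hhalf : Fintype.card F / 2 = Nat.card E := by
    rw [← Nat.card_eq_fintype_card, hc, hE]; omega
  have hχone : χ 1 = 1 := by
    have := hχm 1 (one_mem E) 1 (one_mem E)
    rw [mul_one] at this
    exact (mul_right_eq_self₀.1 this.symm).resolve_right (hχ0 1 (one_mem E))
  have hχpow : ∀ e ∈ E, ∀ n : ℕ, χ (e ^ n) = χ e ^ n := fun e he n => by
    induction n with
    | zero => simpa using hχone
    | succ n ih => rw [pow_succ, hχm _ (pow_mem he n) _ he, ih, pow_succ]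
  have hχroot : ∀ e ∈ E, χ e ^ Nat.card E = 1 := fun e he => by
    rw [← hχpow e he, show e ^ Nat.card E = 1 from
      congrArg Subtype.val (pow_card_eq_one' (x := (⟨e, he⟩ : E))), hχone]
  have hχsq : ∀ e ∈ E, ∃ a, a ≠ 0 ∧ χ e = a * a := fun e he => by
    obtain ⟨a, ha⟩ := (FiniteField.isSquare_iff hch (hχ0 e he)).2 (by rw [hhalf, hχroot e he])
    exact ⟨a, by rintro rfl; exact hχ0 e he (by simpa using ha), ha⟩
  have hχinv : ∀ e ∈ E, χ e * χ e⁻¹ = 1 := fun e he => by
    rw [← hχm _ he _ (inv_mem he), mul_inv_cancel, hχone]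
  have hsqχ : ∀ a : F, a ≠ 0 → ∃ e ∈ E, χ e = a * a := by
    have hEpos : 0 < Nat.card E := Nat.card_pos
    let φ : E → Polynomial.nthRootsFinset (Nat.card E) (1 : F) := fun e =>
      ⟨χ e, (Polynomial.mem_nthRootsFinset hEpos 1).2 (hχroot e e.2)⟩
    have hφ : Function.Injective φ := by
      intro a b hab
      have h1 : χ a = χ b := congrArg Subtype.val hab
      have h2 := hχ1 _ (mul_mem a.2 (inv_mem b.2)) (by
        rw [hχm _ a.2 _ (inv_mem b.2), h1, hχinv _ b.2])
      exact Subtype.ext (mul_inv_eq_one.1 h2)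
    have hφs : Function.Surjective φ := by
      refine ((Nat.bijective_iff_injective_and_card φ).2 ⟨hφ, le_antisymm
        (Nat.card_le_card_of_injective φ hφ) ?_⟩).2
      rw [Nat.card_eq_fintype_card, Fintype.card_coe, Polynomial.nthRootsFinset_def]
      exact (Multiset.toFinset_card_le _).trans (Polynomial.card_nthRoots _ _)
    intro a ha
    obtain ⟨e, he⟩ := hφs ⟨a * a, (Polynomial.mem_nthRootsFinset hEpos 1).2 (by
      rw [← hhalf]; exact (FiniteField.isSquare_iff hch (mul_ne_zero ha ha)).1 ⟨a, rfl⟩)⟩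
    exact ⟨e, e.2, congrArg Subtype.val he⟩
  obtain ⟨T, hT0, hT⟩ := exists_fun_of_swap hτ1 hτ2
  have hττ : ∀ z, ψ τ (ψ τ z) = z := fun z => by
    rw [← Equiv.Perm.mul_apply, ← map_mul, hτ, map_one, Equiv.Perm.one_apply]
  have hTT : ∀ x, x ≠ 0 → T (T x) = x := fun x hx => by
    have := hττ x
    rw [hT x hx, hT _ (hT0 x hx)] at this
    exact coe_injective this
  obtain ⟨s, hs, hTs⟩ := exists_inv_formula hodd T hT0 hTT
    (by
      intro a ha x hx
      obtain ⟨e, he, e1⟩ := hsqχ a ha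
      have e2 : ψ (τ * e * τ) (T x) = ψ e⁻¹ (T x) := by rw [hinv e he]
      rw [map_mul, map_mul, Equiv.Perm.mul_apply, Equiv.Perm.mul_apply, hT _ (hT0 x hx), hTT x hx,
        hψE e he, hψE _ (inv_mem he), e1, hT _ (mul_ne_zero (mul_ne_zero ha ha) hx)] at e2
      rw [coe_injective e2, ← e1, ← mul_assoc, hχinv e he, one_mul])
    (by
      intro b hb
      obtain ⟨u, hu, e1⟩ := hf b
      obtain ⟨v, hv, e2⟩ := hf (-T b)
      obtain ⟨w, hw, e3⟩ := hf (T (-b))
      have hPi : ∀ u ∈ P, ψ u ∞ = ∞ := fun u hu => (hB u).2 ⟨1, one_mem E, u, hu, by simp⟩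
      have hb' : -b ≠ 0 := neg_ne_zero.2 hb
      have k1 : ψ (v * τ * u * τ * w * τ) ∞ = ∞ := by
        simp only [map_mul, Equiv.Perm.mul_apply]
        rw [hτ1, hψP w hw, zero_add, e3, hT _ (hT0 _ hb'), hTT _ hb', hψP u hu, e1,
          neg_add_cancel, hτ2, hPi v hv]
      have k2 : ψ (v * τ * u * τ * w * τ) (0 : F) = (0 : F) := by
        simp only [map_mul, Equiv.Perm.mul_apply]
        rw [hτ2, hPi w hw, hτ1, hψP u hu, zero_add, e1, hT _ hb, hψP v hv, e2, add_neg_cancel]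
      obtain ⟨e, he, y, hy, e4⟩ := (hB _).1 k1
      have hy0 : f y = 0 := by
        rw [e4, map_mul, Equiv.Perm.mul_apply, hψP y hy, hψE e he, zero_add] at k2
        exact (mul_eq_zero.1 (coe_injective k2)).resolve_left (hχ0 e he)
      obtain ⟨a, ha, e5⟩ := hχsq e he
      have k3 : ∀ z : F, z ≠ 0 → ψ v (ψ τ (ψ u (ψ τ ((z + T (-b) : F) : OnePoint F)))) =
          ((a * a * T z : F) : OnePoint F) := by
        intro z hz
        have : ψ (v * τ * u * τ * w * τ) (T z) = ψ (e * y) (T z) := by rw [e4]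
        simp only [map_mul, Equiv.Perm.mul_apply] at this
        rwa [hT _ (hT0 z hz), hTT z hz, hψP w hw, e3, hψP y hy, hy0, add_zero, hψE e he,
          e5] at this
      refine ⟨a, ha, ?_, fun y hy hyb => ?_⟩
      · have := k3 (-T (-b)) (neg_ne_zero.2 (hT0 _ hb'))
        rw [neg_add_cancel, hτ2, hPi u hu, hτ1, hψP v hv, e2, zero_add] at this
        linear_combination -coe_injective this
      · have hz : y - T (-b) ≠ 0 := by
          intro h
          apply hyb
          rw [sub_eq_zero.1 h, hTT _ hb', neg_add_cancel]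
        have := k3 _ hz
        rw [sub_add_cancel, hT y hy, hψP u hu, e1, hT _ hyb, hψP v hv, e2] at this
        linear_combination coe_injective this)
  refine ⟨F, inferInstance, inferInstance, by rw [← hc, Nat.card_eq_fintype_card],
    nonempty_mulEquiv_PSL2 hodd ψ hψ (fun g => ?_) ?_⟩
  · refine mem_of_coords hf hB hψP hτ2 (R := (sl2Perm F).range.comap ψ) ?_ ?_ ?_ g
    · intro y hy
      obtain ⟨g, h1, h2⟩ := exists_sl2_affine (1 : F) (f y) one_ne_zero
      refine ⟨g, Equiv.ext fun z => ?_⟩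
      induction z using OnePoint.rec
      · rw [h1, (hB y).2 ⟨1, one_mem E, y, hy, by simp⟩]
      · rw [h2, hψP y hy]; simp
    · intro e he
      obtain ⟨a, ha, e5⟩ := hχsq e he
      obtain ⟨g, h1, h2⟩ := exists_sl2_affine a 0 ha
      refine ⟨g, Equiv.ext fun z => ?_⟩
      induction z using OnePoint.rec
      · rw [h1, (hB e).2 ⟨e, he, 1, one_mem P, by simp⟩]
      · rw [h2, hψE e he, e5, add_zero]
    · obtain ⟨g, h1, h2, h3⟩ := exists_sl2_inv s hs
      refine ⟨g, Equiv.ext fun z => ?_⟩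
      induction z using OnePoint.rec
      · rw [h1, hτ1]
      · rename_i x
        by_cases hx : x = 0
        · rw [hx, h2, hτ2]
        · rw [h3 x hx, hT x hx, hTs x hx]
  · rw [hG, hc, hE, Nat.add_sub_cancel]; ring

/-- **Recognition of `PGL₂(q)`.** -/
theorem recog_PGL2 [Finite G] {P E : Subgroup G} {τ : G} (hP : IsMulCommutative P)
    (hP1 : P ≠ ⊥) (hEP : E ≤ 𝐍(P)) (hfpf : ∀ e ∈ E, e ≠ 1 → ∀ u ∈ P, Commute e u → u = 1)
    (hE : Nat.card P = Nat.card E + 1) (hτ : τ * τ = 1)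
    (hinv : ∀ e ∈ E, τ * e * τ = e⁻¹) (hτB : ∀ u ∈ P, u ≠ 1 → τ * u * τ ∉ E ⊔ P)
    (hG : Nat.card G = Nat.card E * Nat.card P * (Nat.card P + 1)) :
    ∃ (F : Type) (_ : Field F) (_ : Fintype F), Fintype.card F = Nat.card P ∧
      Nonempty (G ≃* (GL (Fin 2) F ⧸ Subgroup.center (GL (Fin 2) F))) := by
  classical
  obtain ⟨F, _, _, ψ, f, χ, hc, hψ, hf, hχ0, hχ1, hχm, hB, hψP, hψE, hτ1, hτ2⟩ :=
    exists_coords hP hP1 hEP hfpf (by omega) hτ hinv hτB hG
  have hχone : χ 1 = 1 := by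
    have := hχm 1 (one_mem E) 1 (one_mem E)
    rw [mul_one] at this
    exact (mul_right_eq_self₀.1 this.symm).resolve_right (hχ0 1 (one_mem E))
  have hχinv : ∀ e ∈ E, χ e * χ e⁻¹ = 1 := fun e he => by
    rw [← hχm _ he _ (inv_mem he), mul_inv_cancel, hχone]
  have hsurj : ∀ a : F, a ≠ 0 → ∃ e ∈ E, χ e = a := by
    let φ : E → Fˣ := fun e => Units.mk0 (χ e) (hχ0 e e.2)
    have hφ : Function.Injective φ := by
      intro a b hab
      have h1 : χ a = χ b := congrArg Units.val hab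
      have h2 := hχ1 _ (mul_mem a.2 (inv_mem b.2)) (by
        rw [hχm _ a.2 _ (inv_mem b.2), h1, hχinv _ b.2])
      exact Subtype.ext (mul_inv_eq_one.1 h2)
    have hφs : Function.Surjective φ :=
      ((Nat.bijective_iff_injective_and_card φ).2 ⟨hφ, by rw [Nat.card_units, hc, hE]; rfl⟩).2
    intro a ha
    obtain ⟨e, he⟩ := hφs (Units.mk0 a ha)
    exact ⟨e, e.2, congrArg Units.val he⟩
  obtain ⟨T, hT0, hT⟩ := exists_fun_of_swap hτ1 hτ2
  have hTs : ∀ x, x ≠ 0 → T x = T 1 / x := by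
    intro a ha
    obtain ⟨e, he, e1⟩ := hsurj a ha
    have e3 : τ * e = e⁻¹ * τ := by rw [← hinv e he, mul_assoc, hτ, mul_one]
    have e2 : ψ (τ * e) (1 : F) = ψ (e⁻¹ * τ) (1 : F) := by rw [e3]
    rw [map_mul, map_mul, Equiv.Perm.mul_apply, Equiv.Perm.mul_apply, hT _ one_ne_zero,
      hψE e he, hψE _ (inv_mem he), e1, mul_one, hT _ ha] at e2
    rw [coe_injective e2, eq_inv_of_mul_eq_one_right (hχinv e he), e1, div_eq_inv_mul]
  refine ⟨F, inferInstance, inferInstance, by rw [← hc, Nat.card_eq_fintype_card],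
    nonempty_mulEquiv_PGL2 ψ hψ (fun g => ?_) ?_⟩
  · refine mem_of_coords hf hB hψP hτ2 (R := (gl2Perm F).range.comap ψ) ?_ ?_ ?_ g
    · intro y hy
      obtain ⟨g, h1, h2⟩ := exists_gl2_affine (1 : F) (f y) one_ne_zero
      refine ⟨g, Equiv.ext fun z => ?_⟩
      induction z using OnePoint.rec
      · rw [h1, (hB y).2 ⟨1, one_mem E, y, hy, by simp⟩]
      · rw [h2, hψP y hy]; simp
    · intro e he
      obtain ⟨g, h1, h2⟩ := exists_gl2_affine (χ e) 0 (hχ0 e he)
      refine ⟨g, Equiv.ext fun z => ?_⟩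
      induction z using OnePoint.rec
      · rw [h1, (hB e).2 ⟨e, he, 1, one_mem P, by simp⟩]
      · rw [h2, hψE e he, add_zero]
    · obtain ⟨g, h1, h2, h3⟩ := exists_gl2_inv (T 1) (hT0 1 one_ne_zero)
      refine ⟨g, Equiv.ext fun z => ?_⟩
      induction z using OnePoint.rec
      · rw [h1, hτ1]
      · rename_i x
        by_cases hx : x = 0
        · rw [hx, h2, hτ2]
        · rw [h3 x hx, hT x hx, hTs x hx]
  · rw [hG, hc, hE, Nat.add_sub_cancel]; ring

end Cfsg.Agent.P3
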