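import Cfsg.Agent.P3.Group
import Cfsg.Agent.P3.Recog
import Cfsg.Agent.L.BSW2

/-! The Brauer–Suzuki–Wall theorem, odd case. -/

set_option autoImplicit false

namespace Cfsg.Agent.P3

open Cfsg Subgroup Cfsg.Agent.L Cfsg.Agent.FT

universe u

variable {G : Type u} [Group G] [Finite G]

section ti

variable {P : Subgroup G}

omit [Finite G] in
theorem comm_of_cent_eq (hC : ∀ u ∈ P, u ≠ 1 → 𝐂[u] = P) : IsMulCommutative P :=
  isMulComm_iff_le_cent.2 fun v hv => mem_cent.2 fun u hu => by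
    by_cases h1 : u = 1
    · simp [h1]
    · exact mem_cent1.1 (hC u hu h1 ▸ hv)

theorem mem_norm_of_conj_mem (hC : ∀ u ∈ P, u ≠ 1 → 𝐂[u] = P)
    (hcop : (𝐨(P)).Coprime (P.relIndex 𝐍(P))) {u g : G} (hu : u ∈ P) (h1 : u ≠ 1)
    (hg : g * u * g⁻¹ ∈ 𝐍(P)) : g ∈ 𝐍(P) := by
  have h2 : (g * u * g⁻¹) ^ P.relIndex 𝐍(P) ∈ P :=
    pow_index_mem (H := P.subgroupOf 𝐍(P)) ⟨_, hg⟩
  have h3 : (orderOf (g * u * g⁻¹)).Coprime (P.relIndex 𝐍(P)) :=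
    Nat.Coprime.coprime_dvd_left (((MulAut.conj g).orderOf_eq u).dvd.trans
      (orderOf_dvd_natCard _ hu)) hcop
  have h4 : g * u * g⁻¹ ∈ P :=
    zpowers_le_of_mem h2 (mem_zpowers_pow_iff.2 h3.symm)
  rw [← conj_eq_self_iff, ← hC u hu h1, ← cent1_conj, hC _ h4 (by simpa using h1), hC u hu h1]

theorem inverts_of_mem_norm (hC : ∀ u ∈ P, u ≠ 1 → 𝐂[u] = P) (hodd : Odd 𝐨(P)) {w : G}
    (hw1 : w ≠ 1) (hw : w * w = 1) (hn : w ∈ 𝐍(P)) : ∀ a ∈ P, w * a * w = a⁻¹ :=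
  inverts_of_fpf hw hn fun a ha hc => by
    by_contra h1
    exact hw1 (eq_one_of_sq_of_odd hodd (hC a ha h1 ▸ mem_cent1.2 hc.symm) hw)

omit [Finite G] in
theorem mul_mem_of_inverts (hC : ∀ u ∈ P, u ≠ 1 → 𝐂[u] = P) (hP : P ≠ ⊥) {w w' : G}
    (hw : w * w = 1) (hw' : w' * w' = 1) (h : ∀ a ∈ P, w * a * w = a⁻¹)
    (h' : ∀ a ∈ P, w' * a * w' = a⁻¹) : w' * w ∈ P := by
  obtain ⟨⟨u, hu⟩, h1⟩ := ne_bot_iff_exists_ne_one.1 hP
  rw [← hC u hu fun e => h1 (Subtype.ext e)]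
  exact EAC.mul_mem_cent_of_inverts hw hw' (h u hu) (h' u hu)

theorem relIndex_norm {e : ℕ} (hP : 𝐨(P) = 2 * e + 1) (hN : 𝐨(𝐍(P)) = e * (2 * e + 1)) :
    (𝐨(P)).Coprime (P.relIndex 𝐍(P)) := by
  have h1 := H1.card_mul_relIndex (le_normalizer (H := P))
  rw [hP, hN, mul_comm e] at h1
  rw [hP, Nat.eq_of_mul_eq_mul_left (by omega) h1]
  simp

theorem inf_eq_bot_of_notMem (hC : ∀ u ∈ P, u ≠ 1 → 𝐂[u] = P)
    (hcop : (𝐨(P)).Coprime (P.relIndex 𝐍(P))) {τ : G} (hτN : τ ∉ 𝐍(P)) :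
    (𝐍(P) ⊓ 𝐍(P) ^ᵍ τ) ⊓ P = ⊥ := eq_bot_iff.2 fun u hu => by
  by_contra h1
  exact hτN (by simpa using inv_mem (mem_norm_of_conj_mem hC hcop (g := τ⁻¹) hu.2 h1
    (by simpa using mem_conj.1 hu.1.2)))

/-- Recognition of `PSL₂(q)` from a self-centralizing TI subgroup of order `q = 2e + 1`. -/
theorem recog_of_ti {τ : G} {e : ℕ} (he : 0 < e) (hP : 𝐨(P) = 2 * e + 1)
    (hC : ∀ u ∈ P, u ≠ 1 → 𝐂[u] = P) (hN : 𝐨(𝐍(P)) = e * (2 * e + 1))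
    (hG : Nat.card G = e * (2 * e + 1) * (2 * e + 2)) (hτ : τ * τ = 1) (hτN : τ ∉ 𝐍(P))
    (hinv : ∀ x ∈ 𝐍(P) ⊓ 𝐍(P) ^ᵍ τ, τ * x * τ = x⁻¹) :
    ∃ (F : Type) (_ : Field F) (_ : Fintype F), Fintype.card F = Nat.card P ∧
      Nonempty (G ≃* Matrix.ProjectiveSpecialLinearGroup (Fin 2) F) := by
  have hcop := relIndex_norm hP hN
  set E := 𝐍(P) ⊓ 𝐍(P) ^ᵍ τ with hE
  have hEP := inf_eq_bot_of_notMem hC hcop hτN
  have hEN : E ≤ 𝐍(P) := inf_le_left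
  have hsup : E ⊔ P ≤ 𝐍(P) := sup_le hEN le_normalizer
  have hcE : 𝐨(E) = e := by
    have h1 := H1.card_mul_relIndex hEN
    have h2 := FT.card_dvd_of_le hsup
    rw [H1.card_sup_of_inf_eq_bot hEN hEP, ← h1, Nat.mul_dvd_mul_iff_left Nat.card_pos, hP] at h2
    have h3 : E.relIndex 𝐍(P) ≤ (𝐍(P) ^ᵍ τ).index := by
      rw [hE, inf_relIndex_left, ← relIndex_top_right]
      exact relIndex_le_of_le_right le_top (CH1.relIndex_ne_zero' _ _)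
    have h4 := (𝐍(P) ^ᵍ τ).card_mul_index
    rw [card_conj, hN, hG] at h4
    rw [Nat.eq_of_mul_eq_mul_left (by positivity) h4] at h3
    obtain ⟨m, hm⟩ := h2
    have h5 := CH1.relIndex_ne_zero' E 𝐍(P)
    have h6 : m = 1 := by
      rcases m with _ | _ | m
      · omega
      · rfl
      · nlinarith
    rw [hm, h6, hN, mul_one] at h1
    exact Nat.eq_of_mul_eq_mul_right (by omega) h1
  refine recog_PSL2 (E := E) (τ := τ) (comm_of_cent_eq hC)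
    ((one_lt_card_iff_ne_bot P).1 (by omega)) hEN (fun x hx h1 u hu hc => ?_) (by rw [hP, hcE]) hτ
    hinv (fun u hu h1 h2 => hτN (mem_norm_of_conj_mem hC hcop hu h1
      (by rw [inv_eq_self_of_mul_self hτ]; exact hsup h2))) (by rw [hG, hcE, hP])
  by_contra h2
  exact h1 (mem_bot.1 (hEP ▸ ⟨hx, hC u hu h2 ▸ mem_cent1.2 hc.symm⟩))

end ti

namespace BSW

variable {K : Subgroup G} {t s : G}

theorem final_plus (h : BSW K t s) {P : Subgroup G} (hP : 𝐨(P) = 2 * 𝐨(K) + 1)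
    (hC : ∀ u ∈ P, u ≠ 1 → 𝐂[u] = P) (hN : 𝐨(𝐍(P)) = 𝐨(K) * (2 * 𝐨(K) + 1))
    (hG : Nat.card G = 𝐨(K) * (2 * 𝐨(K) + 1) * (2 * 𝐨(K) + 2)) (ht : t ∈ 𝐍(P)) :
    ∃ (F : Type) (_ : Field F) (_ : Fintype F), Fintype.card F = Nat.card P ∧
      Nonempty (G ≃* Matrix.ProjectiveSpecialLinearGroup (Fin 2) F) := by
  have hodd : Odd 𝐨(P) := hP ▸ odd_two_mul_add_one _
  have hk : 0 < 𝐨(K) := Nat.card_pos
  have hP1 : P ≠ ⊥ := (one_lt_card_iff_ne_bot P).1 (by omega)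
  have hti := inverts_of_mem_norm hC hodd h.t1 h.tt ht
  have hcoset : ∀ x ∈ 𝐍(P), s * x ∉ K := fun x hx h1 => by
    have h2 := mul_mem_of_inverts hC hP1 h.tt (h.coset_sq h1) hti
      (inverts_of_mem_norm hC hodd (h.coset_ne_one h1) (h.coset_sq h1) hx)
    have h3 : s * (x * t) ∈ K := by rw [← mul_assoc]; exact mul_mem h1 h.tK
    exact h.coset_ne_one h3 (eq_one_of_sq_of_odd hodd h2 (h.coset_sq h3))
  have hs : s ∉ 𝐍(P) := fun h1 => hcoset s h1 (by rw [h.ss]; exact one_mem K)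
  refine recog_of_ti hk hP hC hN hG h.ss hs fun x hx => h.inv x ?_
  have htE : t ∈ 𝐍(P) ⊓ 𝐍(P) ^ᵍ s := ⟨ht, mem_conj.2 (by
    rw [inv_eq_self_of_mul_self h.ss, h.inv t h.tK]; exact inv_mem ht)⟩
  have h1 : x * t * x⁻¹ * (x * t * x⁻¹) = 1 := by rw [conj_mul, h.tt, mul_one, mul_inv_cancel]
  have h2 := mul_mem_of_inverts hC hP1 h.tt h1 hti (inverts_of_mem_norm hC hodd
    (by simpa using h.t1) h1 (mul_mem (mul_mem hx.1 ht) (inv_mem hx.1)))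
  have h3 : x * t * x⁻¹ * t = 1 := mem_bot.1 (inf_eq_bot_of_notMem hC (relIndex_norm hP hN) hs ▸
    mem_inf.2 ⟨mul_mem (mul_mem (mul_mem hx htE) (inv_mem hx)) htE, h2⟩)
  have h4 : x ∈ 𝐂[t] := by
    rw [mem_cent1_iff_conj, eq_inv_of_mul_eq_one_left h3, inv_eq_self_of_mul_self h.tt]
  exact (h.mem_N.1 h4).resolve_right (hcoset x hx.1)

theorem final (h : BSW K t s) {P : Subgroup G} {q : ℕ}
    (hq : q = 2 * 𝐨(K) + 1 ∨ q + 1 = 2 * 𝐨(K)) (hP : 𝐨(P) = q)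
    (hC : ∀ u ∈ P, u ≠ 1 → 𝐂[u] = P) (hN : 2 * 𝐨(𝐍(P)) + q = q ^ 2)
    (hG : 2 * Nat.card G + q = q ^ 3) :
    ∃ (F : Type) (_ : Field F) (_ : Fintype F), Fintype.card F = q ∧
      Nonempty (G ≃* Matrix.ProjectiveSpecialLinearGroup (Fin 2) F) := by
  have hk : 0 < 𝐨(K) := Nat.card_pos
  have h2 := h.two_dvd
  rcases hq with rfl | hq
  · have hN' : 𝐨(𝐍(P)) = 𝐨(K) * (2 * 𝐨(K) + 1) := by nlinarith
    have : Fact (Nat.Prime 2) := ⟨Nat.prime_two⟩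
    obtain ⟨⟨w, hw⟩, hw2⟩ := exists_prime_orderOf_dvd_card' (G := 𝐍(P)) 2 (hN' ▸ h2.mul_right _)
    rw [orderOf_mk] at hw2
    obtain ⟨c, hc⟩ := isConj_iff.1 (h.isConj w (by rintro rfl; simp at hw2)
      (by rw [← sq, ← hw2, pow_orderOf_eq_one])).symm
    have := h.final_plus (P := P ^ᵍ c) (by rw [card_conj, hP]) (by
      rintro _ ⟨u, hu, rfl⟩ h1
      exact (cent1_conj u c).trans (by rw [hC u hu (by rintro rfl; simp at h1)]))
      (by rw [norm_conj, card_conj, hN']) (by nlinarith)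
      (by rw [norm_conj, ← hc]; exact conj_mem_conj hw c)
    rwa [card_conj, hP] at this
  · obtain ⟨e, he⟩ : ∃ e, 𝐨(K) = e + 1 := ⟨𝐨(K) - 1, by omega⟩
    obtain rfl : q = 2 * e + 1 := by omega
    have hN' : 𝐨(𝐍(P)) = e * (2 * e + 1) := by nlinarith
    have hcop : (𝐨(𝐂[t])).Coprime 𝐨(𝐍(P)) := by
      rw [h.card_N, hN', he]
      refine Nat.Coprime.mul_right (Nat.Coprime.mul_left ?_ (by simp)) ?_
      · rw [Nat.coprime_two_left, Nat.odd_iff]; omega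
      · rw [show 2 * (e + 1) = (2 * e + 1) + 1 by ring]; simp
    have key : ∀ a ∈ 𝐍(P), Commute t a → a = 1 := fun a ha hc => orderOf_eq_one_iff.1
      (Nat.eq_one_of_dvd_coprimes hcop (orderOf_dvd_natCard _ (mem_cent1.2 hc))
        (orderOf_dvd_natCard _ ha))
    have hti := inv_eq_self_of_mul_self h.tt
    rw [← hP]
    refine recog_of_ti (by omega) hP hC hN' (by nlinarith) h.tt
      (fun h1 => h.t1 (key t h1 (Commute.refl t))) (inverts_of_fpf h.tt ?_ fun a ha => key a ha.1)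
    rw [← conj_eq_self_iff, conj_inf, conj_conj, h.tt, conj_one, inf_comm]

theorem small (h : BSW K t s) (hk : 𝐨(K) = 2) : ∃ (q : ℕ) (P : Subgroup G),
    (q = 2 * 𝐨(K) + 1 ∨ q + 1 = 2 * 𝐨(K)) ∧ 𝐨(P) = q ∧ (∀ u ∈ P, u ≠ 1 → 𝐂[u] = P) ∧
      2 * 𝐨(𝐍(P)) + q = q ^ 2 ∧ 2 * Nat.card G + q = q ^ 3 := by
  have hN : ∀ x ∈ 𝐂[t], x * x = 1 := fun x hx => by
    rcases h.mem_N.1 hx with h1 | h1
    · rw [← sq, ← hk]; exact congrArg Subtype.val (pow_card_eq_one' (x := (⟨x, h1⟩ : K)))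
    · exact h.coset_sq h1
  have hG : EAC G := by
    intro w x hw1 hw hx
    obtain ⟨c, rfl⟩ := isConj_iff.1 (h.isConj w hw1 hw)
    have := hN (c⁻¹ * x * c) (mem_conj.1 (cent1_conj t c ▸ mem_cent1.2 hx))
    simpa [mul_assoc] using congrArg (fun z => c * z * c⁻¹) this
  have hN4 : 𝐨(𝐂[t]) = 4 := by rw [h.card_N, hk]
  obtain ⟨q, hq⟩ : ∃ q, (q = 3 ∧ Nat.card G = 12) ∨ (q = 5 ∧ Nat.card G = 60) := by
    by_cases hc : ∀ u : G, u * u = 1 → Commute t u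
    · refine ⟨3, Or.inl ⟨rfl, ?_⟩⟩
      have h1 := ncard_isConj_mul_card_centralizer t
      have h2 := sum_fs_sharp 𝐂[t] (fun _ => (1 : ℕ))
      rw [sum_fs_const] at h2
      simp only [Finset.sum_const, smul_eq_mul, mul_one, card_fs] at h2
      have h3 : {x | IsConj t x} = sharp 𝐂[t] := Set.ext fun x => ⟨fun hx => by
        obtain ⟨c, rfl⟩ := isConj_iff.1 hx
        exact ⟨mem_cent1.2 (hc _ (by rw [conj_mul, h.tt, mul_one, mul_inv_cancel])),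
          by simpa using h.t1⟩, fun hx => h.isConj x hx.2 (hN x hx.1)⟩
      rw [h3] at h1
      rw [← h1, hN4]
      omega
    · push Not at hc
      obtain ⟨u, hu, htu⟩ := hc
      obtain ⟨n, -, h1, h2, -⟩ := hG.exists_galoisField h.t1 h.tt hu htu (by omega)
      exact ⟨5, Or.inr ⟨rfl, by rw [h2, ← h1, hN4]⟩⟩
  have hp : q.Prime := by rcases hq with ⟨rfl, -⟩ | ⟨rfl, -⟩ <;> norm_num
  have := Fact.mk hp
  obtain ⟨u₀, hu₀⟩ := exists_prime_orderOf_dvd_card' (G := G) q (by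
    rcases hq with ⟨rfl, e⟩ | ⟨rfl, e⟩ <;> omega)
  set P := zpowers u₀
  have hP : 𝐨(P) = q := by rw [Nat.card_zpowers, hu₀]
  have hodd : Odd 𝐨(P) := by rw [hP, Nat.odd_iff]; omega
  have hi := P.card_mul_index
  rw [hP] at hi
  let S : Sylow q G := (IsPGroup.of_card (n := 1) (hP.trans (pow_one q).symm)).toSylow (by
    rcases hq with ⟨rfl, e⟩ | ⟨rfl, e⟩ <;> omega)
  have h1 : (𝐍(P) : Subgroup G).index % q = 1 % q := by
    have := card_sylow_modEq_one q G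
    rwa [S.card_eq_index_normalizer] at this
  have h2 : (𝐍(P) : Subgroup G).index ∣ P.index := index_dvd_of_le le_normalizer
  have hsq : ∀ a ∈ P, a ≠ 1 → a * a ≠ 1 := fun a ha h1 h2 => h1 (eq_one_of_sq_of_odd hodd ha h2)
  have hu1 : u₀ ≠ 1 := by rintro rfl; exact hp.ne_one (by simpa using hu₀.symm)
  have h3 : (𝐍(P) : Subgroup G).index ≠ 1 := by
    rw [Ne, index_eq_one]
    intro e
    have key : ∀ w : G, w ≠ 1 → w * w = 1 → w * u₀ * w = u₀⁻¹ := fun w hw1 hw =>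
      inverts_of_fpf (A := P) hw (e ▸ mem_top w) (fun a ha hc => by
        by_contra h4; exact hsq a ha h4 (hG w a hw1 hw hc)) _ (mem_zpowers _)
    have h4 := EAC.mul_mem_cent_of_inverts h.tt h.ss (key t h.t1 h.tt) (key s h.s1 h.ss)
    have h5 : s * (s * t) ∈ K := by rw [h.s_mul_s_mul]; exact h.tK
    exact h.coset_ne_one h5 (hG.eq_one_of_real (hsq _ (mem_zpowers _) hu1) _ h4 (h.coset_sq h5))
  have h4 := (𝐍(P) : Subgroup G).card_mul_index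
  have h5 : (q = 3 ∧ 𝐨(𝐍(P)) = 3) ∨ (q = 5 ∧ 𝐨(𝐍(P)) = 10) := by
    generalize (𝐍(P) : Subgroup G).index = n at h1 h2 h3 h4
    rcases hq with ⟨rfl, e⟩ | ⟨rfl, e⟩
    · rw [show P.index = 4 by omega] at h2
      have := Nat.le_of_dvd (by norm_num) h2
      interval_cases n <;> omega
    · rw [show P.index = 12 by omega] at h2
      have := Nat.le_of_dvd (by norm_num) h2
      interval_cases n <;> omega
  refine ⟨q, P, by omega, hP, fun u hu h1 => ?_, by rcases h5 with ⟨rfl, e⟩ | ⟨rfl, e⟩ <;> omega,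
    by rcases hq with ⟨rfl, e⟩ | ⟨rfl, e⟩ <;> omega⟩
  have h6 : P ≤ 𝐂[u] := fun v hv => by
    obtain ⟨a, rfl⟩ := hu
    obtain ⟨b, rfl⟩ := hv
    exact mem_cent1.2 (zpow_mul_comm u₀ a b)
  have h7 : 𝐂[u] ≤ 𝐍(P) := by
    rw [cent1_eq_of_card_prime (hP ▸ hp) hu h1]; exact cent_le_norm P
  have h8 := FT.card_dvd_of_le h6
  have h9 := FT.card_dvd_of_le h7
  have h10 := Nat.odd_iff.1 (hG.odd_card (hsq u hu h1))
  refine (eq_of_le_of_card_ge h6 ?_).symm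
  rw [hP] at h8 ⊢
  have := Nat.le_of_dvd Nat.card_pos h9
  rcases h5 with ⟨rfl, e⟩ | ⟨rfl, e⟩ <;> omega

/-- **Brauer–Suzuki–Wall**, odd case. -/
theorem exists_psl2 (h : BSW K t s) : ∃ (F : Type) (_ : Field F) (_ : Fintype F),
    (Fintype.card F = 2 * 𝐨(K) + 1 ∨ Fintype.card F + 1 = 2 * 𝐨(K)) ∧
      Nonempty (G ≃* Matrix.ProjectiveSpecialLinearGroup (Fin 2) F) := by
  have hk : 2 ≤ 𝐨(K) := Nat.le_of_dvd Nat.card_pos h.two_dvd
  rcases hk.eq_or_lt with hk | hk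
  · obtain ⟨q, P, hq, hP, hC, hN, hG⟩ := h.small hk.symm
    obtain ⟨F, _, _, h1, h2⟩ := h.final hq hP hC hN hG
    exact ⟨F, inferInstance, inferInstance, h1 ▸ hq, h2⟩
  · obtain ⟨q, P₀, hq, hd⟩ := h.exists_P0 hk
    obtain ⟨P, hP, hC, hN⟩ := hd.exists_sylow
    obtain ⟨F, _, _, h1, h2⟩ := h.final hq hP hC hN hd.card
    exact ⟨F, inferInstance, inferInstance, h1 ▸ hq, h2⟩

end BSW

end Cfsg.Agent.P3
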