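import Cfsg.Agent.L.SL2Model

/-! `PSL₂(F)` and `PGL₂(F)` as permutation groups of the projective line. -/

set_option autoImplicit false

namespace Cfsg.Agent.P3

open Matrix OnePoint Cfsg.Agent.L
open scoped MatrixGroups

variable {F : Type*} [Field F] [DecidableEq F]

/-- The action of `GL₂(F)` on the projective line. -/
noncomputable def gl2Perm (F : Type*) [Field F] [DecidableEq F] :
    GL (Fin 2) F →* Equiv.Perm (OnePoint F) :=
  MulAction.toPermHom (GL (Fin 2) F) (OnePoint F)

theorem gl2Perm_infty (g : GL (Fin 2) F) :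
    gl2Perm F g ∞ = if g 1 0 = 0 then ∞ else ((g 0 0 / g 1 0 : F) : OnePoint F) :=
  smul_infty_eq_ite g

theorem gl2Perm_some (g : GL (Fin 2) F) (k : F) :
    gl2Perm F g (k : OnePoint F) = if g 1 0 * k + g 1 1 = 0 then ∞
      else (((g 0 0 * k + g 0 1) / (g 1 0 * k + g 1 1) : F) : OnePoint F) :=
  smul_some_eq_ite (g := g)

theorem ker_gl2Perm : (gl2Perm F).ker = Subgroup.center (GL (Fin 2) F) := by
  ext g
  rw [MonoidHom.mem_ker, GeneralLinearGroup.mem_center_iff_val_mem_range_scalar]
  have hdet : g 0 0 * g 1 1 - g 0 1 * g 1 0 ≠ 0 := by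
    have := g.det_ne_zero
    rwa [det_fin_two] at this
  constructor
  · intro hg
    have h1 := gl2Perm_infty g
    have h2 := gl2Perm_some g 0
    have h3 := gl2Perm_some g 1
    rw [hg] at h1 h2 h3
    simp only [Equiv.Perm.coe_one, id_eq] at h1 h2 h3
    have hc : g 1 0 = 0 := by
      by_contra h; rw [if_neg h] at h1; exact infty_ne_coe _ h1
    have hd : g 1 1 ≠ 0 := by rintro h; rw [h, hc] at hdet; simp at hdet
    simp only [hc, zero_mul, zero_add, hd, if_false, mul_zero, mul_one, coe_eq_coe] at h2 h3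
    have hb : g 0 1 = 0 := by
      rw [eq_div_iff hd] at h2; simpa using h2.symm
    rw [hb, add_zero, eq_div_iff hd, one_mul] at h3
    refine ⟨g 0 0, ?_⟩
    ext i j
    fin_cases i <;> fin_cases j <;> simp [hb, hc, h3]
  · rintro ⟨a, ha⟩
    have e : ∀ i j, g i j = (Matrix.scalar (Fin 2) a) i j := fun i j => by rw [ha]
    have h00 : g 0 0 = a := by rw [e]; simp
    have h11 : g 1 1 = a := by rw [e]; simp
    have h01 : g 0 1 = 0 := by rw [e]; simp
    have h10 : g 1 0 = 0 := by rw [e]; simp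
    have ha0 : a ≠ 0 := by rintro rfl; rw [h00, h01] at hdet; simp at hdet
    ext z
    induction z using OnePoint.rec
    · rw [gl2Perm_infty, if_pos h10]; rfl
    · rw [gl2Perm_some, h00, h11, h01, h10]; simp [ha0]

theorem sl2Perm_eq (g : SpecialLinearGroup (Fin 2) F) :
    sl2Perm F g = gl2Perm F (SpecialLinearGroup.toGL g) := rfl

theorem ker_sl2Perm : (sl2Perm F).ker = Subgroup.center (SpecialLinearGroup (Fin 2) F) := by
  ext g
  rw [MonoidHom.mem_ker, sl2Perm_eq, ← MonoidHom.mem_ker, ker_gl2Perm,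
    SpecialLinearGroup.toGL_mem_center_iff]

/-- `PSL₂(F)` is the image of `SL₂(F)` in the permutations of the projective line. -/
noncomputable def psl2EquivRange (F : Type*) [Field F] [DecidableEq F] :
    ProjectiveSpecialLinearGroup (Fin 2) F ≃* (sl2Perm F).range :=
  (QuotientGroup.quotientMulEquivOfEq ker_sl2Perm.symm).trans
    (QuotientGroup.quotientKerEquivRange _)

/-- `PGL₂(F)` is the image of `GL₂(F)` in the permutations of the projective line. -/
noncomputable def pgl2EquivRange (F : Type*) [Field F] [DecidableEq F] :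
    (GL (Fin 2) F ⧸ Subgroup.center (GL (Fin 2) F)) ≃* (gl2Perm F).range :=
  (QuotientGroup.quotientMulEquivOfEq ker_gl2Perm.symm).trans
    (QuotientGroup.quotientKerEquivRange _)

omit [DecidableEq F] in
theorem card_center_SL2 (h2 : (2 : F) ≠ 0) :
    Nat.card (Subgroup.center (SpecialLinearGroup (Fin 2) F)) = 2 := by
  rw [Nat.card_eq_two_iff' (1 : Subgroup.center (SpecialLinearGroup (Fin 2) F))]
  have hm : (-1 : SpecialLinearGroup (Fin 2) F) ∈ Subgroup.center _ := by
    rw [Subgroup.mem_center_iff]; intro g; simp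
  refine ⟨⟨-1, hm⟩, ?_, ?_⟩
  · intro h
    have h1 : (-1 : SpecialLinearGroup (Fin 2) F) = 1 := congrArg Subtype.val h
    have h3 : (-1 : F) = 1 := by
      simpa using congrFun (congrFun (congrArg Subtype.val h1) 0) 0
    apply h2
    linear_combination -h3
  · rintro ⟨A, hA⟩ hA1
    obtain ⟨r, hr, hAr⟩ := Matrix.SpecialLinearGroup.mem_center_iff.1 hA
    have : r = 1 ∨ r = -1 := by
      rw [Fintype.card_fin] at hr; exact sq_eq_one_iff.1 hr
    apply Subtype.ext
    rcases this with rfl | rfl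
    · exfalso; apply hA1; apply Subtype.ext; apply Subtype.ext; rw [← hAr]; simp
    · apply Subtype.ext; rw [← hAr]; ext i j; fin_cases i <;> fin_cases j <;> simp

omit [DecidableEq F] in
theorem two_ne_zero_of_odd [Finite F] (h : Odd (Nat.card F)) : (2 : F) ≠ 0 := by
  intro h2
  have := Fintype.ofFinite F
  have h3 : ((Fintype.card F : ℕ) : F) = 0 := FiniteField.cast_card_eq_zero F
  obtain ⟨m, hm⟩ := h
  rw [← Nat.card_eq_fintype_card, hm] at h3
  push_cast at h3
  rw [h2] at h3
  simp at h3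

omit [DecidableEq F] in
theorem ringChar_ne_two_of_odd [Finite F] (h : Odd (Nat.card F)) : ringChar F ≠ 2 := by
  intro h2
  apply two_ne_zero_of_odd h
  have := ringChar.Nat.cast_ringChar (R := F)
  rw [h2] at this
  exact_mod_cast this

omit [DecidableEq F] in
theorem two_mul_card_PSL2 [Finite F] (h : Odd (Nat.card F)) :
    2 * Nat.card (ProjectiveSpecialLinearGroup (Fin 2) F) =
      Nat.card F * (Nat.card F - 1) * (Nat.card F + 1) := by
  have h1 := (Subgroup.center (SpecialLinearGroup (Fin 2) F)).card_mul_index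
  rw [card_center_SL2 (two_ne_zero_of_odd h), card_SL2] at h1
  exact h1

omit [DecidableEq F] in
theorem card_center_GL2 [Finite F] :
    Nat.card (Subgroup.center (GL (Fin 2) F)) = Nat.card F - 1 := by
  rw [← Nat.card_units, GeneralLinearGroup.center_eq_range_scalar]
  refine (Nat.card_congr (MonoidHom.ofInjective ?_).toEquiv).symm
  intro a b hab
  have : (GeneralLinearGroup.scalar (Fin 2) a : GL (Fin 2) F) 0 0 =
      (GeneralLinearGroup.scalar (Fin 2) b : GL (Fin 2) F) 0 0 := by rw [hab]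
  simpa [Units.ext_iff] using this

omit [DecidableEq F] in
theorem card_PGL2 [Finite F] :
    Nat.card (GL (Fin 2) F ⧸ Subgroup.center (GL (Fin 2) F)) =
      Nat.card F * (Nat.card F - 1) * (Nat.card F + 1) := by
  classical
  have := Fintype.ofFinite F
  have h1 := Matrix.card_GL_field (𝔽 := F) 2
  have h2 := (Subgroup.center (GL (Fin 2) F)).card_mul_index
  rw [card_center_GL2, h1] at h2
  simp only [Fin.prod_univ_two, Fin.val_zero, pow_zero, Fin.val_one, pow_one,
    ← Nat.card_eq_fintype_card] at h2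
  have hq : 1 < Nat.card F := Finite.one_lt_card
  obtain ⟨k, hk⟩ : ∃ k, Nat.card F = k + 1 := ⟨Nat.card F - 1, by omega⟩
  change (Subgroup.center (GL (Fin 2) F)).index = _
  rw [hk] at h2 ⊢
  have hk0 : 0 < k := by omega
  have e1 : (k + 1) ^ 2 - 1 = k * (k + 2) := by
    have : (k + 1) ^ 2 = k * (k + 2) + 1 := by ring
    omega
  have e2 : (k + 1) ^ 2 - (k + 1) = (k + 1) * k := by
    have : (k + 1) ^ 2 = (k + 1) * k + (k + 1) := by ring
    omega
  rw [e1, e2, Nat.add_sub_cancel] at h2
  rw [Nat.add_sub_cancel]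
  apply Nat.eq_of_mul_eq_mul_left hk0
  rw [h2]; ring

theorem exists_sl2_affine (a b : F) (ha : a ≠ 0) :
    ∃ g : SpecialLinearGroup (Fin 2) F, sl2Perm F g ∞ = ∞ ∧
      ∀ x : F, sl2Perm F g x = ((a * a * x + b : F) : OnePoint F) := by
  refine ⟨mkSL2 a (b / a) 0 a⁻¹ (by simp [ha]), by simp [sl2Perm_mk_infty], fun x => ?_⟩
  rw [sl2Perm_mk_some]
  simp only [zero_mul, zero_add, inv_eq_zero, ha, if_false, coe_eq_coe]
  field_simp

theorem exists_sl2_inv (s : F) (hs : s ≠ 0) :
    ∃ g : SpecialLinearGroup (Fin 2) F, sl2Perm F g ∞ = ((0 : F) : OnePoint F) ∧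
      sl2Perm F g ((0 : F) : OnePoint F) = ∞ ∧
      ∀ x : F, x ≠ 0 → sl2Perm F g x = ((-(s * s) / x : F) : OnePoint F) := by
  refine ⟨mkSL2 0 (-s) s⁻¹ 0 (by simp [hs]), by simp [sl2Perm_mk_infty, hs],
    by simp [sl2Perm_mk_some], fun x hx => ?_⟩
  rw [sl2Perm_mk_some]
  simp only [zero_mul, zero_add, add_zero, mul_eq_zero, inv_eq_zero, hs, hx, or_self,
    if_false, coe_eq_coe]
  field_simp

theorem exists_gl2_affine (a b : F) (ha : a ≠ 0) :
    ∃ g : GL (Fin 2) F, gl2Perm F g ∞ = ∞ ∧
      ∀ x : F, gl2Perm F g x = ((a * x + b : F) : OnePoint F) := by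
  refine ⟨GeneralLinearGroup.mkOfDetNeZero !![a, b; 0, 1] (by simp [ha]),
    by simp [gl2Perm_infty], fun x => ?_⟩
  rw [gl2Perm_some]
  simp

theorem exists_gl2_inv (c : F) (hc : c ≠ 0) :
    ∃ g : GL (Fin 2) F, gl2Perm F g ∞ = ((0 : F) : OnePoint F) ∧
      gl2Perm F g ((0 : F) : OnePoint F) = ∞ ∧
      ∀ x : F, x ≠ 0 → gl2Perm F g x = ((c / x : F) : OnePoint F) := by
  refine ⟨GeneralLinearGroup.mkOfDetNeZero !![0, c; 1, 0] (by simp [hc]),
    by simp [gl2Perm_infty], by simp [gl2Perm_some], fun x hx => ?_⟩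
  rw [gl2Perm_some]
  simp [hx]

/-- Recognition: a group of the right order embedded in the image of `SL₂(F)`, `|F|` odd. -/
theorem nonempty_mulEquiv_PSL2 [Finite F] (hodd : Odd (Nat.card F)) {G : Type*} [Group G]
    (ψ : G →* Equiv.Perm (OnePoint F)) (hψ : Function.Injective ψ)
    (hle : ∀ g, ψ g ∈ (sl2Perm F).range)
    (hcard : 2 * Nat.card G = Nat.card F * (Nat.card F - 1) * (Nat.card F + 1)) :
    Nonempty (G ≃* ProjectiveSpecialLinearGroup (Fin 2) F) := by
  have e1 := MonoidHom.ofInjective hψ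
  have e2 := psl2EquivRange F
  have : Finite (OnePoint F) := inferInstanceAs (Finite (Option F))
  have : ψ.range = (sl2Perm F).range := by
    apply Subgroup.eq_of_le_of_card_ge
    · rintro _ ⟨g, rfl⟩; exact hle g
    · rw [← Nat.card_congr e1.toEquiv, ← Nat.card_congr e2.toEquiv]
      have := two_mul_card_PSL2 hodd
      omega
  exact ⟨e1.trans ((MulEquiv.subgroupCongr this).trans e2.symm)⟩

/-- Recognition: a group of the right order embedded in the image of `GL₂(F)`. -/
theorem nonempty_mulEquiv_PGL2 [Finite F] {G : Type*} [Group G]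
    (ψ : G →* Equiv.Perm (OnePoint F)) (hψ : Function.Injective ψ)
    (hle : ∀ g, ψ g ∈ (gl2Perm F).range)
    (hcard : Nat.card G = Nat.card F * (Nat.card F - 1) * (Nat.card F + 1)) :
    Nonempty (G ≃* (GL (Fin 2) F ⧸ Subgroup.center (GL (Fin 2) F))) := by
  have e1 := MonoidHom.ofInjective hψ
  have e2 := pgl2EquivRange F
  have : Finite (OnePoint F) := inferInstanceAs (Finite (Option F))
  have : ψ.range = (gl2Perm F).range := by
    apply Subgroup.eq_of_le_of_card_ge
    · rintro _ ⟨g, rfl⟩; exact hle g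
    · rw [← Nat.card_congr e1.toEquiv, ← Nat.card_congr e2.toEquiv, card_PGL2, hcard]
  exact ⟨e1.trans ((MulEquiv.subgroupCongr this).trans e2.symm)⟩

omit [DecidableEq F] in
/-- A field isomorphism induces an isomorphism of the groups `PSL₂`. -/
theorem nonempty_PSL2_equiv_of_ringEquiv {K L : Type*} [Field K] [Field L] (e : K ≃+* L) :
    Nonempty (ProjectiveSpecialLinearGroup (Fin 2) K ≃* ProjectiveSpecialLinearGroup (Fin 2) L) := by
  obtain ⟨f⟩ := nonempty_SL2_equiv_of_ringEquiv e
  refine ⟨QuotientGroup.congr _ _ f ?_⟩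
  ext x
  simp only [Subgroup.mem_map, Subgroup.mem_center_iff]
  constructor
  · rintro ⟨y, hy, rfl⟩ g
    obtain ⟨g, rfl⟩ := f.surjective g
    change f g * f y = f y * f g
    rw [← map_mul, hy, map_mul]
  · intro hx
    refine ⟨f.symm x, fun g => f.injective ?_, f.apply_symm_apply x⟩
    rw [map_mul, map_mul, f.apply_symm_apply, hx]

end Cfsg.Agent.P3
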