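import Cfsg.Agent.P3.Char1

/-! Brauer–Suzuki–Wall, odd case: the common constituent `X` and the order of `G`. -/

set_option autoImplicit false

namespace Cfsg.Agent.P3

open Cfsg Subgroup Cfsg.Agent.L Cfsg.Agent.FT
open scoped ComplexConjugate

universe u

variable {G : Type u} [Group G] [Finite G]

/-- `η_α = θ_α - 1_G`. -/
noncomputable def eta (K : Subgroup G) (α : G → ℂ) : G → ℂ := theta K α - cf1 ⊤

theorem eta_vchar {K : Subgroup G} {α : G → ℂ} (hα : α ∈ Irr K) : eta K α ∈ VChar ⊤ :=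
  sub_mem (theta_vchar hα) (cf1_mem_VChar ⊤)

theorem dirr_cf1 : Dirr ⊤ (cf1 (⊤ : Subgroup G)) := Or.inl (cf1_mem_Irr ⊤)

theorem ip_eta_cf1 {K : Subgroup G} {α : G → ℂ} (hα : α ∈ Irr K) (hα1 : α ≠ cf1 K) :
    ip ⊤ (eta K α) (cf1 ⊤) = 0 := by
  rw [eta, ip_sub_left, BSW.ip_theta_cf1 α hα hα1, ip_cf1_cf1, sub_self]

theorem ip_eta_eq {K : Subgroup G} {α X : G → ℂ} (hα : α ∈ Irr K) (hX : X ∈ VChar ⊤)
    (h1 : ip ⊤ X (cf1 ⊤) = 0) : ip ⊤ (eta K α) X = ip K X (cf1 K) - ip K X α := by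
  rw [vchar_ip_comm (eta_vchar hα) hX, eta, ip_sub_right, h1, sub_zero,
    ip_theta (vchar_mem_CF hX)]

theorem ip_cf1_of_add {A B : G → ℂ} (hA : Dirr ⊤ A) (hAB : ip ⊤ A B = 0)
    (h : ip ⊤ (A + B) (cf1 ⊤) = 0) : ip ⊤ A (cf1 ⊤) = 0 := by
  rw [ip_add_left] at h
  rcases hA.ip_cases dirr_cf1 with e | e | e
  · rw [e] at hAB h
    rw [ip_eq_zero_symm hAB, ip_cf1_cf1] at h; simp at h
  · rw [e] at hAB h
    rw [ip_neg_left, neg_eq_zero] at hAB
    rw [ip_eq_zero_symm hAB, ip_neg_left, ip_cf1_cf1] at h; simp at h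
  · exact e

theorem order_arith {i k n : ℤ} (hi : Odd i) (hk : Even k)
    (h : i * n ^ 2 = 2 * (1 + n * k) * (2 + n * k)) : n = 2 ∨ n = -2 := by
  have h1 : n ∣ 4 := ⟨i * n - 6 * k - 2 * n * k ^ 2, by linear_combination -h⟩
  have h2 : |n| ≤ 4 := Int.le_of_dvd (by norm_num) ((abs_dvd _ _).2 h1)
  obtain ⟨j, rfl⟩ := hi
  obtain ⟨m, rfl⟩ := hk
  rw [abs_le] at h2
  obtain ⟨h3, h4⟩ := h2
  interval_cases n
  · exfalso; ring_nf at h; omega
  · norm_num at h1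
  · simp
  · exfalso; ring_nf at h; omega
  · exfalso; simp at h
  · exfalso; ring_nf at h; omega
  · simp
  · exfalso; omega
  · exfalso; ring_nf at h; omega

namespace BSW

variable {K : Subgroup G} {t s : G}

theorem eta_star (h : BSW K t s) {α : G → ℂ} (hα : α ∈ Irr K) : eta K (star α) = eta K α := by
  rw [eta, eta, theta, theta, ← ind_cfConj_of_norm (mem_top s) (h.N_le_norm h.s_mem) (cf1 K - α)]
  congr 1
  refine ind_congr _ fun x hx => ?_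
  rw [cfConj_apply, inv_eq_self_of_mul_self h.ss, h.inv x hx, Pi.sub_apply, Pi.sub_apply,
    cf1_of_mem hx, cf1_of_mem (inv_mem hx), (irr_isChar hα).apply_inv, star_apply']

theorem eta_one (h : BSW K t s) {α : G → ℂ} (hα : α ∈ Irr K) : eta K α 1 = -1 := by
  rw [eta, Pi.sub_apply, h.theta_one hα]; simp

theorem eta_t (h : BSW K t s) {α : G → ℂ} (hα : α ∈ Irr K) : eta K α t = 1 - 2 * α t := by
  rw [eta, Pi.sub_apply, h.theta_t hα, cf1_top_apply]; ring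

theorem ip_eta_eta (h : BSW K t s) {α β : G → ℂ} (hα : α ∈ Irr K) (hβ : β ∈ Irr K)
    (hα1 : α ≠ cf1 K) (hβ1 : β ≠ cf1 K) : ip ⊤ (eta K α) (eta K β) =
      1 + (if α = β then 1 else 0) + if star α = β then 1 else 0 := by
  conv_lhs => rw [eta, eta]
  rw [ip_sub_left, ip_sub_right, ip_sub_right, h.ip_theta_theta hα hβ hα1 hβ1,
    ip_theta_cf1 α hα hα1, ip_cf1_cf1, vchar_ip_comm (cf1_mem_VChar ⊤) (theta_vchar hβ),
    ip_theta_cf1 β hβ hβ1]
  ring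

theorem Fsum_eta (h : BSW K t s) {α : G → ℂ} (hα : α ∈ Irr K) (hα1 : α ≠ cf1 K) :
    Fsum t (eta K α) = 4 * 𝐨(K) ^ 3 - Nat.card G := by
  have h1 := Fsum_dirr t (dirr_cf1 (G := G))
  rw [← h.Fsum_theta hα hα1, show theta K α = eta K α + cf1 ⊤ by rw [eta, sub_add_cancel],
    Fsum_add]
  simp only [cf1_top_apply, one_mul, one_pow, mul_one] at h1
  rw [h1]; ring

omit [Finite G] in
theorem ne_cf1 {α : G → ℂ} (h : star α ≠ α) : α ≠ cf1 K := by
  rintro rfl; exact h (star_cf1 K)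

theorem ip_eta_self (h : BSW K t s) {α : G → ℂ} (hα : α ∈ Irr K) (hr : star α ≠ α) :
    ip ⊤ (eta K α) (eta K α) = 2 := by
  rw [h.ip_eta_eta hα hα (ne_cf1 hr) (ne_cf1 hr), if_pos rfl, if_neg hr]; norm_num

theorem nsq_eta_le (h : BSW K t s) {α : G → ℂ} (hα : α ∈ Irr K) (hα1 : α ≠ cf1 K) :
    nsq ⊤ (eta K α) ≤ 3 := by
  rw [nsq_eq_re, h.ip_eta_eta hα hα hα1 hα1, if_pos rfl]
  split_ifs <;> norm_num

/-- Among four or more nonreal characters both signs occur at `t`. -/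
theorem exists_sign (h : BSW K t s) {α β : G → ℂ} (hα : α ∈ Irr K) (hβ : β ∈ Irr K)
    (hαr : star α ≠ α) (hβr : star β ≠ β) (h1 : β ≠ α) (h2 : star β ≠ α) :
    ∃ γ ∈ Irr K, star γ ≠ γ ∧ γ t = -α t := by
  by_contra hc
  push Not at hc
  obtain ⟨l, -, -, -, hl⟩ := h.exists_real
  obtain ⟨μ, hμ, hμt⟩ := exists_irrKer_notMem_cfKer (K := K) (N := ⊥) ⟨bot_le, norm_bot (G := G) ▸ le_top⟩
    (x := t) h.t1
  have hμ := irrKer_subset _ _ hμ
  have hlin := isLin_of_comm h.comm hμ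
  have hμt : μ t = -1 := (h.sq_t hμ).resolve_left (by rwa [hlin.mem_cfKer_iff] at hμt)
  have key : ∀ γ ∈ Irr K, star γ ≠ γ → μ * γ = cf1 K ∨ μ * γ = l := by
    intro γ hγ hγr
    refine hl _ (hlin.mul_mem_Irr hγ) ?_
    by_contra h3
    apply hc _ (hlin.mul_mem_Irr hγ) h3
    have h4 := hc γ hγ hγr
    rw [Pi.mul_apply, hμt]
    rcases h.sq_t hγ with e | e <;> rcases h.sq_t hα with e' | e' <;> simp_all
  have canc : ∀ γ ∈ Irr K, ∀ δ ∈ Irr K, μ * γ = μ * δ → γ = δ := fun γ hγ δ hδ e =>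
    hlin.mul_left_cancel (irr_mem_CF hγ) (irr_mem_CF hδ) e
  have hβ' := star_mem_Irr hβ
  rcases key α hα hαr with a | a <;> rcases key β hβ hβr with b | b <;>
    rcases key _ hβ' (by rw [star_star]; exact hβr.symm) with c | c <;>
    first
      | exact h1 (canc _ hβ _ hα (b.trans a.symm))
      | exact h2 (canc _ hβ' _ hα (c.trans a.symm))
      | exact hβr (canc _ hβ' _ hβ (c.trans b.symm))

theorem common_aux (h : BSW K t s) {l α A B : G → ℂ} (hl : l ∈ Irr K) (hl1 : l ≠ cf1 K)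
    (hreal : ∀ γ ∈ Irr K, star γ = γ → γ = cf1 K ∨ γ = l) (hα : α ∈ Irr K) (hαr : star α ≠ α)
    (hA : Dirr ⊤ A) (hB : Dirr ⊤ B) (hAB : ip ⊤ A B = 0) (he : eta K α = A + B)
    (hlA : ip ⊤ (eta K l) A = 1) (hlB : ip ⊤ (eta K l) B = 0) :
    ∀ β ∈ Irr K, β ≠ cf1 K → ip ⊤ (eta K β) A = 1 := by
  classical
  have hBA := ip_eq_zero_symm hAB
  have hα1 : α ≠ cf1 K := ne_cf1 hαr
  have hαA : ip ⊤ (eta K α) A = 1 := by rw [he, ip_add_left, hA.ip_self, hBA, add_zero]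
  have hαB : ip ⊤ (eta K α) B = 1 := by rw [he, ip_add_left, hB.ip_self, hAB, zero_add]
  have hsame : ∀ γ ∈ Irr K, ∀ δ, γ = δ ∨ star γ = δ → eta K γ = eta K δ := by
    rintro γ hγ δ (rfl | rfl)
    · rfl
    · exact (h.eta_star hγ).symm
  have hip1 : ∀ γ ∈ Irr K, ∀ δ ∈ Irr K, γ ≠ cf1 K → δ ≠ cf1 K → eta K γ ≠ eta K δ →
      ip ⊤ (eta K γ) (eta K δ) = 1 := fun γ hγ δ hδ h1 h2 h3 => by
    rw [h.ip_eta_eta hγ hδ h1 h2, if_neg fun e => h3 (hsame γ hγ δ (Or.inl e)),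
      if_neg fun e => h3 (hsame γ hγ δ (Or.inr e))]
    ring
  have hcases : ∀ γ ∈ Irr K, γ ≠ cf1 K → eta K γ ≠ eta K α →
      (ip ⊤ (eta K γ) A = 1 ∧ ip ⊤ (eta K γ) B = 0) ∨
      (ip ⊤ (eta K γ) A = 0 ∧ ip ⊤ (eta K γ) B = 1) := fun γ hγ h1 h2 =>
    two_cases (eta_vchar hγ) hA hB hAB (h.nsq_eta_le hγ h1)
      (by rw [← ip_add_right, ← he, hip1 γ hγ α hα h1 hα1 h2])
  intro β hβ hβ1
  by_contra hβA
  have hβα : eta K β ≠ eta K α := fun e => hβA (e ▸ hαA)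
  have hβr : star β ≠ β := fun e => by
    rcases hreal β hβ e with e | e
    · exact hβ1 e
    · exact hβA (e ▸ hlA)
  obtain ⟨hβA0, hβB⟩ := (hcases β hβ hβ1 hβα).resolve_left fun e => hβA e.1
  have hC := dirr_sub (eta_vchar hβ) hB (h.ip_eta_self hβ hβr) hβB
  have hall : ∀ γ ∈ Irr K, star γ ≠ γ → ip ⊤ (eta K γ) B = 1 := by
    intro γ hγ hγr
    by_cases e : eta K γ = eta K α
    · rw [e, hαB]
    refine ((hcases γ hγ (ne_cf1 hγr) e).resolve_left ?_).2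
    rintro ⟨h1, h2⟩
    have h3 : eta K γ ≠ eta K β := fun e => by rw [e, hβA0] at h1; exact zero_ne_one h1
    have hD := dirr_sub (eta_vchar hγ) hA (h.ip_eta_self hγ hγr) h1
    have h4 := hD.eq_of_ip_eq_one hC (by
      rw [ip_sub_left, ip_sub_right, ip_sub_right, hip1 γ hγ β hβ (ne_cf1 hγr) hβ1 h3, h2, hAB,
        vchar_ip_comm hA.mem_VChar (eta_vchar hβ), hβA0]
      ring)
    have h5 := congrFun h4 1
    have h6 := congrFun he 1
    rw [Pi.sub_apply, Pi.sub_apply, h.eta_one hγ, h.eta_one hβ] at h5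
    rw [Pi.add_apply, h.eta_one hα] at h6
    obtain ⟨n, hn⟩ := vchar_one_int hA.mem_VChar
    have h7 : (2 * n : ℂ) = -1 := by rw [← hn]; linear_combination -h5 - h6
    have h8 : 2 * n = -1 := by exact_mod_cast h7
    omega
  have hB1 : ip ⊤ B (cf1 ⊤) = 0 :=
    ip_cf1_of_add hB hBA (by rw [add_comm, ← he, ip_eta_cf1 hα hα1])
  have hBt : B t = 1 + l t := by
    have := apply_of_ip_const h.comm (ξ := B - cf1 K - l) (n := ip K B (cf1 K) - 1) (by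
      intro γ hγ
      rw [ip_sub_left, ip_sub_left]
      by_cases hγr : star γ = γ
      · rcases hreal γ hγ hγr with rfl | rfl
        · rw [ip_cf1_cf1, ip_irr_of_ne hl hγ hl1, sub_zero]
        · rw [ip_eta_eq hγ hB.mem_VChar hB1] at hlB
          rw [ip_irr_of_ne (cf1_mem_Irr K) hγ hl1.symm, ip_irr_self hγ]
          linear_combination -hlB
      · have h1 := hall γ hγ hγr
        rw [ip_eta_eq hγ hB.mem_VChar hB1] at h1
        have hlr : l ≠ γ := by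
          rintro rfl
          rw [hall _ hγ hγr] at hlB; exact one_ne_zero hlB
        rw [ip_irr_of_ne (cf1_mem_Irr K) hγ (ne_cf1 hγr).symm, ip_irr_of_ne hl hγ hlr]
        linear_combination -h1) h.tK
    rw [if_neg h.t1, Pi.sub_apply, Pi.sub_apply, cf1_of_mem h.tK] at this
    linear_combination this
  have hY : ∀ γ ∈ Irr K, star γ ≠ γ → (Nat.card G : ℂ) * (1 - 2 * γ t - B t) ^ 2 =
      (-1 - B 1) * (4 * 𝐨(K) ^ 3 - Nat.card G - Fsum t B) := by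
    intro γ hγ hγr
    have h1 := Fsum_dirr t (dirr_sub (eta_vchar hγ) hB (h.ip_eta_self hγ hγr) (hall γ hγ hγr))
    have h2 := Fsum_add t (eta K γ - B) B
    rw [sub_add_cancel, h.Fsum_eta hγ (ne_cf1 hγr)] at h2
    rw [Pi.sub_apply, Pi.sub_apply, h.eta_one hγ, h.eta_t hγ] at h1
    rw [← h1, h2]; ring
  obtain ⟨γ, hγ, hγr, hγt⟩ := h.exists_sign hα hβ hαr hβr (fun e => hβα (by rw [e]))
    (fun e => hβα (hsame β hβ α (Or.inr e)))
  have h1 := hY γ hγ hγr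
  rw [← hY α hα hαr, hγt, hBt] at h1
  have h2 := mul_left_cancel₀ (Nat.cast_ne_zero.2 Nat.card_pos.ne') h1
  rcases h.sq_t hα with e | e <;> rcases h.sq_t hl with e' | e' <;> rw [e, e'] at h2 <;>
    norm_num at h2

theorem exists_X (h : BSW K t s) (hk : 2 < 𝐨(K)) : ∃ α ∈ Irr K, star α ≠ α ∧
    ∃ X Y, Dirr ⊤ X ∧ Dirr ⊤ Y ∧ ip ⊤ X Y = 0 ∧ eta K α = X + Y ∧
      ∀ β ∈ Irr K, β ≠ cf1 K → ip ⊤ (eta K β) X = 1 := by
  classical
  obtain ⟨l, hl, hl1, hlr, hreal⟩ := h.exists_real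
  obtain ⟨α, hα, hα'⟩ : ∃ α ∈ Irr K, α ∉ ({cf1 K, l} : Finset (G → ℂ)) :=
    Finset.exists_mem_notMem_of_card_lt_card
      (Finset.card_le_two.trans_lt (by rwa [card_Irr_of_comm h.comm]))
  simp only [Finset.mem_insert, Finset.mem_singleton] at hα'
  have hαr : star α ≠ α := fun e => hα' (hreal α hα e)
  obtain ⟨E, hE, hEd, hEo, he⟩ := vchar_small_norm (n := 2) (eta_vchar hα)
    (nsq_eq_of_ip (by rw [h.ip_eta_self hα hαr]; norm_num)) (by norm_num)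
  obtain ⟨A, B, hne, rfl⟩ := Finset.card_eq_two.1 hE
  rw [Finset.sum_pair hne] at he
  have hA := hEd A (by simp)
  have hB := hEd B (by simp)
  have hAB := hEo.2 A (by simp) B (by simp) hne
  have hlα : l ≠ α := fun e => hα' (Or.inr e.symm)
  refine ⟨α, hα, hαr, ?_⟩
  rcases two_cases (eta_vchar hl) hA hB hAB (h.nsq_eta_le hl hl1) (by
    rw [← ip_add_right, ← he, h.ip_eta_eta hl hα hl1 (ne_cf1 hαr), hlr, if_neg hlα]; ring)
    with ⟨h1, h2⟩ | ⟨h1, h2⟩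
  · exact ⟨A, B, hA, hB, hAB, he, h.common_aux hl hl1 hreal hα hαr hA hB hAB he h1 h2⟩
  · rw [add_comm] at he
    exact ⟨B, A, hB, hA, ip_eq_zero_symm hAB, he,
      h.common_aux hl hl1 hreal hα hαr hB hA (ip_eq_zero_symm hAB) he h2 h1⟩

/-- The character-theoretic data. -/
theorem char_data (h : BSW K t s) (hk : 2 < 𝐨(K)) : ∃ (ε : ℤ) (X Y : G → ℂ),
    (ε = 1 ∨ ε = -1) ∧ Dirr ⊤ X ∧ Dirr ⊤ Y ∧ ip ⊤ X (cf1 ⊤) = 0 ∧
    X 1 = (ε * (2 * 𝐨(K) + ε) : ℤ) ∧ Y 1 = (-ε * (2 * (𝐨(K) + ε)) : ℤ) ∧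
    ((𝐂[t] : Subgroup G).index : ℤ) = (2 * 𝐨(K) + ε) * (𝐨(K) + ε) ∧
    (∀ x ∈ K, x ≠ 1 → X x = 1) ∧ (∀ g, (∀ y, y⁻¹ * g * y ∉ K) → X g + Y g = -1) ∧
    ∀ g, ∃ n : ℤ, X g = n := by
  classical
  obtain ⟨α, hα, hαr, X, Y, hX, hY, hXY, he, hall⟩ := h.exists_X hk
  have hα1 : α ≠ cf1 K := ne_cf1 hαr
  have hX1 : ip ⊤ X (cf1 ⊤) = 0 := ip_cf1_of_add hX hXY (by rw [← he, ip_eta_cf1 hα hα1])
  obtain ⟨m, hm⟩ := vchar_ip_int (vchar_res le_top hX.mem_VChar) (cf1_mem_VChar K)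
  rw [ip_res_left] at hm
  have hval : ∀ x ∈ K, X x = 1 + if x = 1 then ((m - 1 : ℤ) : ℂ) * 𝐨(K) else 0 := by
    intro x hx
    rw [← apply_of_ip_const h.comm (ξ := X - cf1 K) (by
      intro γ hγ
      rw [ip_sub_left]
      by_cases e : γ = cf1 K
      · rw [e, hm, ip_cf1_cf1]; push_cast; ring
      · have h1 := hall γ hγ e
        rw [ip_eta_eq hγ hX.mem_VChar hX1, hm] at h1
        rw [ip_irr_of_ne (cf1_mem_Irr K) hγ (Ne.symm e)]
        push_cast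
        linear_combination -h1) hx, Pi.sub_apply, cf1_of_mem hx]
    ring
  set n := m - 1
  have hx1 : X 1 = 1 + n * 𝐨(K) := by rw [hval 1 (one_mem K), if_pos rfl]
  have hxK : ∀ x ∈ K, x ≠ 1 → X x = 1 := fun x hx h1 => by rw [hval x hx, if_neg h1, add_zero]
  have hy1 : Y 1 = -2 - n * 𝐨(K) := by
    have := congrFun he 1
    rw [h.eta_one hα, Pi.add_apply, hx1] at this
    linear_combination -this
  have hyt : Y t ^ 2 = 4 := by
    have := congrFun he t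
    rw [h.eta_t hα, Pi.add_apply, hxK t h.tK h.t1] at this
    rw [show Y t = -2 * α t by linear_combination -this]
    rcases h.sq_t hα with e | e <;> rw [e] <;> norm_num
  have hG : (Nat.card G : ℂ) = 2 * 𝐨(K) * (𝐂[t] : Subgroup G).index := by
    rw [← (𝐂[t] : Subgroup G).card_mul_index, h.card_N]; push_cast; ring
  have hF := h.Fsum_eta hα hα1
  have hFX := Fsum_dirr t hX
  have hFY := Fsum_dirr t hY
  rw [he, Fsum_add] at hF
  rw [hx1, hxK t h.tK h.t1] at hFX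
  rw [hy1, hyt] at hFY
  have hk0 := card_ne_zero_C K
  have key : (((𝐂[t] : Subgroup G).index : ℂ)) * n ^ 2 =
      2 * (1 + n * 𝐨(K)) * (2 + n * 𝐨(K)) := by
    apply mul_left_cancel₀ (mul_ne_zero (two_ne_zero) (pow_ne_zero 3 hk0))
    rw [hG] at hF hFX hFY
    linear_combination (1 + n * 𝐨(K)) * (2 + n * 𝐨(K)) * hF - (2 + n * 𝐨(K)) * hFX +
      (1 + n * 𝐨(K)) * hFY
  have key' : (((𝐂[t] : Subgroup G).index : ℤ)) * n ^ 2 =
      2 * (1 + n * 𝐨(K)) * (2 + n * 𝐨(K)) := by exact_mod_cast key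
  have hn := order_arith (by exact_mod_cast h.odd_index)
    (by exact_mod_cast even_iff_two_dvd.2 h.two_dvd) key'
  obtain ⟨ε, hε, hnε⟩ : ∃ ε : ℤ, (ε = 1 ∨ ε = -1) ∧ n = 2 * ε := by
    rcases hn with e | e
    · exact ⟨1, Or.inl rfl, e⟩
    · exact ⟨-1, Or.inr rfl, e⟩
  refine ⟨ε, X, Y, hε, hX, hY, hX1, ?_, ?_, ?_, hxK, fun g hg => ?_, fun g => ?_⟩
  · rw [hx1, hnε]; rcases hε with rfl | rfl <;> push_cast <;> ring
  · rw [hy1, hnε]; rcases hε with rfl | rfl <;> push_cast <;> ring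
  · rw [hnε] at key'
    rcases hε with rfl | rfl <;> linarith
  · rw [← Pi.add_apply, ← he, eta, Pi.sub_apply, theta_off α hg]; simp
  · refine int_of_aut_fixed (vchar_isIntegral hX.mem_VChar g) fun u => ?_
    have hu := hX.cfAut u
    have h1 : ∀ x ∈ K, cfAut u X x = X x := fun x hx => by
      rw [cfAut_apply, hval x hx]
      split_ifs <;> simp
    have h2 : ip ⊤ (cfAut u X) (cf1 ⊤) = 0 := by
      rw [← cfAut_cf1 u, ip_cfAut_vchar' u hX.mem_VChar (cf1_mem_VChar ⊤), hX1]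
    have h3 : ip ⊤ (eta K α) (cfAut u X) = 1 := by
      rw [ip_eta_eq hα hu.mem_VChar h2, ip_congr h1 fun _ _ => rfl,
        ip_congr (ψ := α) h1 fun _ _ => rfl, ← ip_eta_eq hα hX.mem_VChar hX1, hall α hα hα1]
    rcases two_cases hu.mem_VChar hX hY hXY (by rw [hu.nsq]; norm_num) (by
      rw [← ip_add_right, ← he, vchar_ip_comm hu.mem_VChar (eta_vchar hα), h3]) with e | e
    · exact congrFun (hu.eq_of_ip_eq_one hX e.1) g
    · have h4 := congrFun (hu.eq_of_ip_eq_one hY e.2) 1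
      rw [h1 1 (one_mem K), hx1, hy1] at h4
      have h5 : (2 * (n * 𝐨(K)) : ℂ) = -3 := by linear_combination h4
      have h6 : 2 * (n * 𝐨(K)) = -3 := by exact_mod_cast h5
      omega

end BSW

end Cfsg.Agent.P3
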