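import Cfsg.Agent.P3.Setup

/-! Brauer–Suzuki–Wall, odd case: the virtual characters `θ_α = (1 - α)^G`. -/

set_option autoImplicit false

namespace Cfsg.Agent.P3

open Cfsg Subgroup Cfsg.Agent.L Cfsg.Agent.FT
open scoped ComplexConjugate

universe u

variable {G : Type u} [Group G] [Finite G]

/-- `θ_α = (1_K - α)^G`. -/
noncomputable def theta (K : Subgroup G) (α : G → ℂ) : G → ℂ := ind ⊤ K (cf1 K - α)

/-- `F(φ) = ∑_a φ(a t a⁻¹ t)`. -/
noncomputable def Fsum (t : G) (φ : G → ℂ) : ℂ :=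
  ∑ a ∈ fs ((⊤ : Subgroup G) : Set G), φ (a * t * a⁻¹ * t)

theorem Fsum_add (t : G) (φ ψ : G → ℂ) : Fsum t (φ + ψ) = Fsum t φ + Fsum t ψ := by
  simp [Fsum, Finset.sum_add_distrib]

theorem Fsum_dirr (t : G) {X : G → ℂ} (hX : Dirr ⊤ X) :
    X 1 * Fsum t X = Nat.card G * X t ^ 2 := by
  have key : ∀ χ ∈ Irr (⊤ : Subgroup G), χ 1 * Fsum t χ = Nat.card G * χ t ^ 2 := fun χ hχ => by
    rw [Fsum, P1.sum_conj_mul hχ (mem_top t), card_top, sq]
  rcases hX with hX | hX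
  · exact key X hX
  · have := key _ hX
    simp only [Fsum, Pi.neg_apply, Finset.sum_neg_distrib] at this ⊢
    linear_combination this

theorem theta_vchar {K : Subgroup G} {α : G → ℂ} (hα : α ∈ Irr K) : theta K α ∈ VChar ⊤ :=
  vchar_ind le_top (sub_mem (cf1_mem_VChar K) (irr_mem_VChar hα))

theorem theta_mem_CF (K : Subgroup G) (α : G → ℂ) : theta K α ∈ CF ⊤ := ind_mem_CF _ _ _

theorem theta_off {K : Subgroup G} (α : G → ℂ) {g : G} (hg : ∀ y, y⁻¹ * g * y ∉ K) :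
    theta K α g = 0 := ind_apply_eq_zero fun y _ hy => absurd hy (hg y)

theorem ip_theta {K : Subgroup G} {φ : G → ℂ} (hφ : φ ∈ CF ⊤) (α : G → ℂ) :
    ip ⊤ φ (theta K α) = ip K φ (cf1 K) - ip K φ α := by
  rw [theta, ip_ind_right le_top hφ, ip_sub_right]

theorem cfAut_theta (K : Subgroup G) (u : ℂ →+* ℂ) (α : G → ℂ) :
    cfAut u (theta K α) = theta K (cfAut u α) := by
  rw [theta, theta, ← ind_cfAut, cfAut_sub, cfAut_cf1]

/-- A class function of an abelian group with constant multiplicities is a multiple of the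
regular character. -/
theorem apply_of_ip_const {K : Subgroup G} (hK : IsMulCommutative K) {ξ : G → ℂ} {n : ℂ}
    (h : ∀ α ∈ Irr K, ip K ξ α = n) {x : G} (hx : x ∈ K) [Decidable (x = 1)] :
    ξ x = if x = 1 then n * 𝐨(K) else 0 := by
  have h1 : res K ξ ∈ CF K := mem_CF_of_comm hK fun y hy => res_of_notMem ξ hy
  have h2 := sum_irr_one_mul K x
  rw [← res_of_mem ξ hx, apply_eq_sum_irr h1,
    Finset.sum_congr rfl fun α hα => by
      rw [ip_res_left, h α hα, ← one_mul (α x), ← (isLin_of_comm hK hα).2.1],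
    ← Finset.mul_sum, h2]
  split_ifs <;> simp

theorem two_cases {φ A B : G → ℂ} (hφ : φ ∈ VChar ⊤) (hA : Dirr ⊤ A) (hB : Dirr ⊤ B)
    (hAB : ip ⊤ A B = 0) (h3 : nsq ⊤ φ ≤ 3) (h : ip ⊤ φ A + ip ⊤ φ B = 1) :
    (ip ⊤ φ A = 1 ∧ ip ⊤ φ B = 0) ∨ (ip ⊤ φ A = 0 ∧ ip ⊤ φ B = 1) := by
  obtain ⟨a, ha⟩ := vchar_ip_int hφ hA.mem_VChar
  obtain ⟨b, hb⟩ := vchar_ip_int hφ hB.mem_VChar
  have hne : A ≠ B := by rintro rfl; rw [hA.ip_self] at hAB; exact one_ne_zero hAB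
  have hon : ON ⊤ {A, B} := by
    refine ⟨?_, ?_⟩
    · simp [hA.ip_self, hB.ip_self]
    · simp [hAB, ip_eq_zero_symm hAB]
  have h4 := hon.bessel φ
  rw [Finset.sum_pair hne, ha, hb, Complex.norm_intCast, Complex.norm_intCast, sq_abs,
    sq_abs] at h4
  have h5 : a ^ 2 + b ^ 2 ≤ 3 := by exact_mod_cast h4.trans h3
  rw [ha, hb] at h ⊢
  have h6 : a + b = 1 := by exact_mod_cast h
  obtain rfl : b = 1 - a := by omega
  have : a = 1 ∨ a = 0 := by
    have h7 : -1 < a := by nlinarith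
    have h8 : a < 2 := by nlinarith
    omega
  rcases this with rfl | rfl <;> simp

/-- Splitting off a constituent of a virtual character of norm two. -/
theorem dirr_sub {φ A : G → ℂ} (hφ : φ ∈ VChar ⊤) (hA : Dirr ⊤ A) (h2 : ip ⊤ φ φ = 2)
    (h : ip ⊤ φ A = 1) : Dirr ⊤ (φ - A) := by
  refine dirr_of_nsq_one (sub_mem hφ hA.mem_VChar) (nsq_eq_one_iff.2 ?_)
  rw [ip_sub_left, ip_sub_right, ip_sub_right, h2, h, ← vchar_ip_comm hφ hA.mem_VChar, h,
    hA.ip_self]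
  norm_num

namespace BSW

variable {K : Subgroup G} {t s : G}

theorem ind_apply (h : BSW K t s) {ψ : G → ℂ} (h1 : ψ 1 = 0) {x : G} (hx : x ∈ K) :
    ind ⊤ K ψ x = ψ x + ψ x⁻¹ := by
  by_cases hx1 : x = 1
  · rw [hx1, ind_one le_top, inv_one, h1]; simp
  rw [ind_of_mem _ _ (mem_top x), ← sum_fs_subset (A := (𝐂[t] : Subgroup G)) (fun _ _ => mem_top _)
    (fun g _ hg => res_of_notMem _ fun h2 => hg (by
      simpa using inv_mem (h.ti (g := g⁻¹) hx hx1 (by simpa using h2)))), h.sum_N,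
    sum_fs_congr (g := fun _ => ψ x) (fun g hg => by
      rw [mul_assoc, (h.commute hx hg).eq, inv_mul_cancel_left, res_of_mem _ hx]),
    sum_fs_congr (f := fun g => res K ψ ((s * g)⁻¹ * x * (s * g))) (g := fun _ => ψ x⁻¹)
      (fun g hg => by
        have h2 : s * (s * g) ∈ K := by rwa [h.s_mul_s_mul]
        have h3 := h.coset_inv h2 hx
        have h4 := inv_eq_self_of_mul_self (h.coset_sq h2)
        rw [h4] at h3
        simp only [h4, h3, res_of_mem _ (inv_mem hx)]),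
    sum_fs_const, sum_fs_const]
  have := card_ne_zero_C K
  simp only [nsmul_eq_mul]
  field_simp

theorem theta_apply (h : BSW K t s) {α : G → ℂ} (hα : α ∈ Irr K) {x : G} (hx : x ∈ K) :
    theta K α x = 2 - α x - conj (α x) := by
  rw [theta, h.ind_apply (by simp [(isLin_of_comm h.comm hα).2.1]) hx, Pi.sub_apply, Pi.sub_apply,
    cf1_of_mem hx, cf1_of_mem (inv_mem hx), (irr_isChar hα).apply_inv]
  ring

theorem theta_one (h : BSW K t s) {α : G → ℂ} (hα : α ∈ Irr K) : theta K α 1 = 0 := by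
  rw [h.theta_apply hα (one_mem K), (isLin_of_comm h.comm hα).2.1, map_one]; ring

theorem sq_t (h : BSW K t s) {α : G → ℂ} (hα : α ∈ Irr K) : α t = 1 ∨ α t = -1 := by
  have hl := isLin_of_comm h.comm hα
  rw [← mul_self_eq_one_iff, ← hl.2.2 t h.tK t h.tK, h.tt, hl.2.1]

theorem theta_t (h : BSW K t s) {α : G → ℂ} (hα : α ∈ Irr K) : theta K α t = 2 - 2 * α t := by
  rw [h.theta_apply hα h.tK]
  rcases h.sq_t hα with e | e <;> simp [e] <;> ring

theorem ip_K_theta (h : BSW K t s) {α : G → ℂ} (hα : α ∈ Irr K) (β : G → ℂ) :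
    ip K (theta K α) β = 2 * ip K (cf1 K) β - ip K α β - ip K (star α) β := by
  rw [← ip_smul_left, ← ip_sub_left, ← ip_sub_left]
  refine ip_congr (fun x hx => ?_) fun _ _ => rfl
  simp [h.theta_apply hα hx, cf1_of_mem hx]

theorem ip_theta_theta (h : BSW K t s) {α β : G → ℂ} (hα : α ∈ Irr K) (hβ : β ∈ Irr K)
    (hα1 : α ≠ cf1 K) (hβ1 : β ≠ cf1 K) : ip ⊤ (theta K α) (theta K β) =
      2 + (if α = β then 1 else 0) + if star α = β then 1 else 0 := by
  have h1 := cf1_mem_Irr K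
  have h2 : star α ≠ cf1 K := fun e => hα1 (by rw [← star_star α, e, star_cf1])
  rw [ip_theta (theta_mem_CF _ _), h.ip_K_theta hα, h.ip_K_theta hα, ip_cf1_cf1,
    ip_irr_of_ne hα h1 hα1, ip_irr_of_ne (star_mem_Irr hα) h1 h2, ip_irr_of_ne h1 hβ hβ1.symm,
    ip_irr hα hβ, ip_irr (star_mem_Irr hα) hβ]
  ring

omit [Finite G] in
theorem mem_class_iff (h : BSW K t s) {u : G} : u ∈ classSupp {t} ⊤ ↔ u ≠ 1 ∧ u * u = 1 := by
  rw [CH1.mem_class]
  constructor
  · rintro ⟨g, -, rfl⟩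
    exact ⟨by simpa using h.t1, by rw [conj_mul, h.tt, mul_one, mul_inv_cancel]⟩
  · rintro ⟨h1, h2⟩
    obtain ⟨g, hg⟩ := isConj_iff.1 (h.isConj u h1 h2)
    exact ⟨g, mem_top g, hg⟩

theorem Fsum_ind (h : BSW K t s) {ψ : G → ℂ} (h1 : ψ 1 = 0) :
    Fsum t (ind ⊤ K ψ) = 4 * 𝐨(K) ^ 2 * ∑ x ∈ fs (K : Set G), ψ x := by
  classical
  have hS : {g | s * g ∈ K} ⊆ classSupp {t} ⊤ := fun g hg =>
    h.mem_class_iff.2 ⟨h.coset_ne_one hg, h.coset_sq hg⟩
  have e1 : ∀ g : G, ∑ a ∈ fs ((⊤ : Subgroup G) : Set G), res K ψ (g⁻¹ * (a * t * a⁻¹ * t) * g) =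
      ∑ a ∈ fs ((⊤ : Subgroup G) : Set G), res K ψ (a * t * a⁻¹ * (g⁻¹ * t * g⁻¹⁻¹)) := by
    intro g
    rw [← sum_fs_mul_left (mem_top g)]
    exact sum_fs_congr fun a _ => by congr 1; group
  have e2 : ∀ v ∈ classSupp {t} ⊤, ∑ u ∈ fs (classSupp {t} ⊤), res K ψ (u * v) =
      if s * v ∈ K then ∑ x ∈ fs (K : Set G), ψ x else 0 := by
    intro v hv
    obtain ⟨hv1, hv2⟩ := h.mem_class_iff.1 hv
    split_ifs with hsv
    · rw [← sum_fs_subset hS (fun u hu' hu => res_of_notMem _ fun h2 => hu (by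
        have := mul_mem hsv (inv_mem h2)
        change s * u ∈ K
        rw [mul_inv_rev, mul_assoc, mul_inv_cancel_left] at this
        rwa [inv_eq_self_of_mul_self (h.mem_class_iff.1 hu').2] at this)), h.sum_coset,
        ← sum_fs_mul_right hsv ψ, ← sum_fs_inv]
      refine sum_fs_congr fun x hx => ?_
      have : s * x⁻¹ * v = x * (s * v) := by
        rw [← h.inv x hx, ← mul_assoc, ← mul_assoc, h.ss, one_mul, mul_assoc]
      rw [this, res_of_mem _ (mul_mem hx hsv)]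
    · refine Finset.sum_eq_zero fun u hu => ?_
      obtain ⟨hu1, hu2⟩ := h.mem_class_iff.1 (mem_fs.1 hu)
      by_cases h2 : u * v ∈ K
      · by_cases h3 : u * v = 1
        · rw [h3, res_one, h1]
        · have h4 : v * (u * v) * v⁻¹ = (u * v)⁻¹ := by
            rw [mul_inv_rev, inv_eq_self_of_mul_self hu2, mul_assoc, mul_inv_cancel_right,
              inv_eq_self_of_mul_self hv2]
          have h5 := (h.mem_N.1 (h.ti h2 h3 (h4 ▸ inv_mem h2))).resolve_right hsv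
          have h6 := (Subgroup.mul_mem_cancel_right _ h5).1 h2
          rw [(h.uniq u h6 hu2).resolve_left hu1, (h.uniq v h5 hv2).resolve_left hv1] at h3
          exact absurd h.tt h3
      · exact res_of_notMem _ h2
  rw [Fsum, sum_fs_congr fun a _ => ind_of_mem K ψ (mem_top _), ← Finset.mul_sum, Finset.sum_comm,
    sum_fs_congr fun g _ => e1 g,
    sum_fs_inv ⊤ fun g => ∑ a ∈ fs ((⊤ : Subgroup G) : Set G), res K ψ (a * t * a⁻¹ * (g * t * g⁻¹)),
    CH1.sum_fs_conj_class ⊤ t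
      fun v => ∑ a ∈ fs ((⊤ : Subgroup G) : Set G), res K ψ (a * t * a⁻¹ * v),
    sum_fs_congr fun v _ => CH1.sum_fs_conj_class ⊤ t fun u => res K ψ (u * v),
    ← Finset.smul_sum, sum_fs_congr e2,
    ← sum_fs_subset hS (f := fun v => if s * v ∈ K then ∑ x ∈ fs (K : Set G), ψ x else 0)
      (fun v _ hv => if_neg hv),
    sum_fs_congr (A := {g | s * g ∈ K})
      (f := fun v => if s * v ∈ K then ∑ x ∈ fs (K : Set G), ψ x else 0) (fun v hv => if_pos hv),
    h.sum_coset fun _ => ∑ x ∈ fs (K : Set G), ψ x, sum_fs_const, top_inf_eq, h.card_N]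
  have := card_ne_zero_C K
  simp only [nsmul_eq_mul]
  push_cast
  field_simp
  ring

theorem Fsum_theta (h : BSW K t s) {α : G → ℂ} (hα : α ∈ Irr K) (hα1 : α ≠ cf1 K) :
    Fsum t (theta K α) = 4 * 𝐨(K) ^ 3 := by
  have h1 := ip_cf1_right K (cf1 K - α)
  rw [ip_sub_left, ip_cf1_cf1, ip_irr_of_ne hα (cf1_mem_Irr K) hα1] at h1
  have := card_ne_zero_C K
  rw [theta, h.Fsum_ind (by simp [(isLin_of_comm h.comm hα).2.1])]
  field_simp at h1
  rw [← h1]; ring

theorem ip_theta_cf1 (α : G → ℂ) (hα : α ∈ Irr K) (hα1 : α ≠ cf1 K) :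
    ip ⊤ (theta K α) (cf1 ⊤) = 1 := by
  rw [theta, ip_ind_left le_top _ (cf1_mem_CF ⊤), ← ip_res_right, res_cf1 le_top, ip_sub_left,
    ip_cf1_cf1, ip_irr_of_ne hα (cf1_mem_Irr K) hα1, sub_zero]

end BSW

end Cfsg.Agent.P3
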