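import Cfsg.Agent.P3.Char2

/-! Brauer–Suzuki–Wall, odd case: the set `P₀` of zeros of `X`. -/

set_option autoImplicit false

namespace Cfsg.Agent.P3

open Cfsg Subgroup Cfsg.Agent.L Cfsg.Agent.FT
open scoped ComplexConjugate

universe u

variable {G : Type u} [Group G] [Finite G]

theorem dvd_index_of_dirr {X : G → ℂ} (hX : Dirr ⊤ X) {g : G} {d : ℤ} (h1 : X 1 = d)
    (hg : X g = 1 ∨ X g = -1) : d ∣ (𝐂[g] : Subgroup G).index := by
  have h2 : IsIntegral ℤ (((𝐂[g] : Subgroup G).index : ℂ) * X g / X 1) := by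
    rcases hX with hX | hX
    · simpa using irr_central_isIntegral hX (mem_top g)
    · simpa [neg_div_neg_eq] using irr_central_isIntegral hX (mem_top g)
  have hd : (d : ℂ) ≠ 0 := h1 ▸ hX.one_ne_zero
  have h3 : IsIntegral ℤ (((((𝐂[g] : Subgroup G).index : ℚ) / d : ℚ)) : ℂ) := by
    rw [h1] at h2
    rcases hg with e | e <;> rw [e] at h2
    · simpa using h2
    · simpa [neg_div] using h2.neg
  obtain ⟨m, hm⟩ := int_of_isIntegral_rat h3
  push_cast at hm
  rw [div_eq_iff hd] at hm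
  exact ⟨m, by exact_mod_cast hm.trans (mul_comm _ _)⟩

/-- The data extracted from the characters: `q² - 1` elements have centralizer order dividing
`q`, all other nonidentity elements have centralizer order prime to `q`. -/
structure P0Data (G : Type u) [Group G] (q : ℕ) (P₀ : Set G) : Prop where
  odd : Odd q
  one_lt : 1 < q
  card : 2 * Nat.card G + q = q ^ 3
  one_notMem : (1 : G) ∉ P₀
  ncard : P₀.ncard + 1 = q ^ 2
  dvd : ∀ g ∈ P₀, 𝐨(𝐂[g]) ∣ q
  coprime : ∀ g, g ≠ 1 → g ∉ P₀ → (𝐨(𝐂[g])).Coprime q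

namespace BSW

variable {K : Subgroup G} {t s : G}

theorem coprime_cent (h : BSW K t s) (hi : ∀ r : ℕ, r.Prime → r ∣ 𝐨(K) → r ≠ 2 → ¬ r ∣ K.index)
    {g : G} (hg : ∀ y, y⁻¹ * g * y ∉ K) : (𝐨(𝐂[g])).Coprime 𝐨(K) := by
  refine Nat.coprime_of_dvd fun r hr h1 h2 => ?_
  have := Fact.mk hr
  obtain ⟨⟨y, hy⟩, hy2⟩ := exists_prime_orderOf_dvd_card' r h1
  rw [orderOf_mk] at hy2
  have hy1 : y ≠ 1 := by rintro rfl; exact hr.ne_one (by simpa using hy2.symm)
  obtain ⟨c, hc⟩ : ∃ c, c * y * c⁻¹ ∈ K := by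
    by_cases hr2 : r = 2
    · obtain ⟨c, hc⟩ := isConj_iff.1
        (h.isConj y hy1 (by rw [← sq, ← hr2, ← hy2, pow_orderOf_eq_one])).symm
      exact ⟨c, hc ▸ h.tK⟩
    · obtain ⟨S, hS⟩ := exists_isSyl hr K
      obtain ⟨c, -, hc⟩ := (hS.trans hr le_top (by simpa using hi r hr h2 hr2)).exists_conj_le hr
        (Q := zpowers y) (IsPGroup.of_card (n := 1) (by rw [Nat.card_zpowers, hy2, pow_one])) le_top
      exact ⟨c, hS.le (hc (conj_mem_conj (mem_zpowers y) c))⟩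
  have h3 : c * g * c⁻¹ ∈ 𝐂[t] := h.cent_le_N hc (by simpa using hy1)
    (mem_cent1.2 ((Commute.symm (mem_cent1.1 hy)).conj c))
  rcases h.mem_N.1 h3 with h4 | h4
  · exact hg c⁻¹ (by simpa using h4)
  · obtain ⟨d, hd⟩ := isConj_iff.1 (h.isConj _ (h.coset_ne_one h4) (h.coset_sq h4))
    refine hg (c⁻¹ * d) ?_
    have : (c⁻¹ * d)⁻¹ * g * (c⁻¹ * d) = d⁻¹ * (c * g * c⁻¹) * d := by group
    rw [this, ← hd]
    simpa [mul_assoc] using h.tK

theorem exists_P0 (h : BSW K t s) (hk : 2 < 𝐨(K)) : ∃ (q : ℕ) (P₀ : Set G),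
    (q = 2 * 𝐨(K) + 1 ∨ q + 1 = 2 * 𝐨(K)) ∧ P0Data G q P₀ := by
  classical
  obtain ⟨ε, X, Y, hε, hX, hY, hX1, hx, hy, hi, hXK, hXY, hint⟩ := h.char_data hk
  choose Z hZ using hint
  set k := 𝐨(K) with hkdef
  set i := (𝐂[t] : Subgroup G).index
  have hG : Nat.card G = 2 * k * i := by rw [← (𝐂[t] : Subgroup G).card_mul_index, h.card_N]
  obtain ⟨q, hq⟩ : ∃ q : ℕ, (q : ℤ) = 2 * k + ε := ⟨(2 * k + ε : ℤ).toNat, by omega⟩
  obtain ⟨m, hm⟩ : ∃ m : ℕ, (m : ℤ) = k + ε := ⟨(k + ε : ℤ).toNat, by omega⟩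
  have hi' : i = q * m := by rw [← hq, ← hm] at hi; exact_mod_cast hi
  have hε2 : ε * ε = 1 := by rcases hε with rfl | rfl <;> rfl
  have cqk : q.Coprime k := by
    rw [← Nat.isCoprime_iff_coprime]
    exact ⟨ε, -2 * ε, by rw [hq]; linear_combination hε2⟩
  have cmk : m.Coprime k := by
    rw [← Nat.isCoprime_iff_coprime]
    exact ⟨ε, -ε, by rw [hm]; linear_combination hε2⟩
  have cqm : q.Coprime m := by
    rw [← Nat.isCoprime_iff_coprime]
    exact ⟨-ε, 2 * ε, by rw [hq, hm]; linear_combination hε2⟩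
  have hqodd : Odd q := by rw [Nat.odd_iff]; omega
  let A := classSupp (sharp K) ⊤
  let R : Set G := {g | g ≠ 1 ∧ g ∉ A}
  have hA : (A.ncard : ℤ) = (k - 1) * i := by
    have h1 := h.normedTI.ncard_classSupp
    have h2 := sum_fs_sharp K (fun _ => (1 : ℕ))
    rw [sum_fs_const] at h2
    simp only [Finset.sum_const, smul_eq_mul, mul_one, card_fs] at h2
    rw [h.card_N, card_top, hG] at h1
    have h3 : A.ncard = (sharp K).ncard * i :=
      Nat.eq_of_mul_eq_mul_right (by omega : 0 < 2 * k) (by rw [h1]; ring)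
    rw [h3]; push_cast
    rw [show ((sharp K).ncard : ℤ) = k - 1 by omega]
  have hA1 : (1 : G) ∉ A := by
    rintro ⟨a, ha, g, -, e⟩
    exact ha.2 (by simpa using e.symm)
  have hsum : ∀ f : G → ℤ, ∑ g ∈ fs ((⊤ : Subgroup G) : Set G), f g =
      f 1 + ∑ g ∈ fs A, f g + ∑ g ∈ fs R, f g := by
    intro f
    have e : sharp (⊤ : Subgroup G) \ A = R := Set.ext fun g => by simp [sharp, R]
    rw [sum_fs_sharp, sum_fs_diff (A := A) (B := sharp ⊤)
      (fun g hg => ⟨mem_top g, fun e => hA1 (e ▸ hg)⟩), e, add_assoc]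
  have hR : ∀ g ∈ R, ∀ y, y⁻¹ * g * y ∉ K := fun g hg y hy =>
    hg.2 ⟨_, ⟨hy, fun e => hg.1 (by simpa [mul_assoc] using congrArg (fun z => y * z * y⁻¹) e)⟩,
      y, mem_top y, by group⟩
  have hZA : ∀ g ∈ A, Z g = 1 := by
    rintro _ ⟨a, ha, g, -, rfl⟩
    have := hZ (g * a * g⁻¹)
    rw [CF_conj hX.mem_CF (mem_top g), hXK a ha.1 ha.2] at this
    exact_mod_cast this.symm
  have hZ1 : Z 1 = ε * q := by rw [hq]; exact_mod_cast (hZ 1).symm.trans hx
  have hG0 : (Nat.card G : ℂ) ≠ 0 := Nat.cast_ne_zero.2 Nat.card_pos.ne'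
  have s1 : ∑ g ∈ fs ((⊤ : Subgroup G) : Set G), Z g = 0 := by
    rw [ip_cf1_right, card_top, mul_eq_zero, inv_eq_zero, sum_fs_congr fun g _ => hZ g] at hX1
    exact_mod_cast hX1.resolve_left hG0
  have s2 : ∑ g ∈ fs ((⊤ : Subgroup G) : Set G), Z g * Z g = Nat.card G := by
    have := hX.ip_self
    rw [ip_def, card_top, inv_mul_eq_iff_eq_mul₀ hG0, mul_one,
      sum_fs_congr (g := fun g => ((Z g * Z g : ℤ) : ℂ)) fun g _ => by rw [hZ g]; simp] at this
    exact_mod_cast this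
  have s3 : ∑ g ∈ fs R, Z g * (Z g + 1) = 0 := by
    have := hsum fun g => Z g * (Z g + 1)
    rw [sum_fs_congr (A := A) (g := fun _ => 2) fun g hg => by rw [hZA g hg]; rfl] at this
    simp only [mul_add, Finset.sum_add_distrib, mul_one, s1, s2, Finset.sum_const, card_fs,
      nsmul_eq_mul] at this ⊢
    rw [hA, hZ1, hG, hi'] at this
    push_cast at this
    rw [hq, hm] at this
    linear_combination -this - (2 * k + ε) ^ 2 * hε2
  have hZR : ∀ g ∈ R, Z g = 0 ∨ Z g = -1 := by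
    intro g hg
    have := (Finset.sum_eq_zero_iff_of_nonneg fun g _ => by
      rcases le_or_gt 0 (Z g) with e | e
      · positivity
      · exact mul_nonneg_of_nonpos_of_nonpos e.le (by omega)).1 s3 g (mem_fs.2 hg)
    rw [mul_eq_zero] at this
    omega
  let P₀ : Set G := {g | g ∈ R ∧ Z g = 0}
  have hP : (P₀.ncard : ℤ) + 1 = q ^ 2 := by
    have := hsum fun g => Z g + 1
    rw [sum_fs_congr (A := A) (g := fun _ => 2) fun g hg => by rw [hZA g hg]; rfl,
      ← sum_fs_subset (A := P₀) (fun g hg => hg.1) (fun g hg hg' => by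
        rw [(hZR g hg).resolve_left fun e => hg' ⟨hg, e⟩]; rfl),
      sum_fs_congr (A := P₀) (g := fun _ => 1) fun g hg => by rw [hg.2]; rfl] at this
    rw [Finset.sum_add_distrib, s1] at this
    simp only [mul_one, Finset.sum_const, card_fs, nsmul_eq_mul,
      coe_top, Set.ncard_univ] at this
    rw [hA, hZ1, hG, hi'] at this
    push_cast at this
    rw [hq, hm] at this
    rw [hq]
    linear_combination -this
  refine ⟨q, P₀, by omega, hqodd, by omega, ?_, fun h1 => h1.1.1 rfl, by exact_mod_cast hP,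
    fun g hg => ?_, fun g hg1 hg => ?_⟩
  · zify
    rw [hG, hi']; push_cast
    rw [hq, hm]; linear_combination (-(2 * k + ε)) * hε2
  · have h1 : Y g = -1 := by
      have := hXY g (hR g hg.1)
      rwa [hZ g, hg.2, Int.cast_zero, zero_add] at this
    have h2 := dvd_index_of_dirr hY hy (Or.inr h1)
    rw [← hm] at h2
    have h3 : 2 * m ∣ (𝐂[g] : Subgroup G).index := by
      have := (Dvd.intro_left _ rfl).trans h2
      exact_mod_cast this
    obtain ⟨c, hc⟩ := h3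
    have h4 := (𝐂[g] : Subgroup G).card_mul_index
    rw [hc, hG, hi'] at h4
    have h5 : 𝐨(𝐂[g]) * c = k * q :=
      Nat.eq_of_mul_eq_mul_left (by omega : 0 < 2 * m) (by linear_combination h4)
    refine (h.coprime_cent (fun r hr h6 h7 h8 => ?_) (hR g hg.1)).dvd_of_dvd_mul_left ⟨c, h5.symm⟩
    have h9 : K.index = 2 * (q * m) := Nat.eq_of_mul_eq_mul_left (by omega : 0 < k)
      (by rw [K.card_mul_index, hG, hi']; ring)
    rw [h9] at h8
    rcases (Nat.Prime.dvd_mul hr).1 h8 with e | e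
    · exact h7 ((Nat.prime_dvd_prime_iff_eq hr Nat.prime_two).1 e)
    · exact hr.ne_one (Nat.eq_one_of_dvd_coprimes (cqk.mul_left cmk) e h6)
  · have h1 : X g = 1 ∨ X g = -1 := by
      rw [hZ g]
      by_cases hA : g ∈ A
      · left; rw [hZA g hA]; simp
      · right; rw [(hZR g ⟨hg1, hA⟩).resolve_left fun e => hg ⟨⟨hg1, hA⟩, e⟩]; simp
    have h2 := dvd_index_of_dirr hX hx h1
    rw [← hq] at h2
    have h3 : q ∣ (𝐂[g] : Subgroup G).index := by
      have := (Dvd.intro_left _ rfl).trans h2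
      exact_mod_cast this
    obtain ⟨c, hc⟩ := h3
    have h4 := (𝐂[g] : Subgroup G).card_mul_index
    rw [hc, hG, hi'] at h4
    have h5 : 𝐨(𝐂[g]) * c = 2 * k * m :=
      Nat.eq_of_mul_eq_mul_left (by omega : 0 < q) (by linear_combination h4)
    exact Nat.Coprime.coprime_dvd_left ⟨c, h5.symm⟩
      (((Nat.coprime_two_left.2 hqodd).mul_left cqk.symm).mul_left cqm.symm)

end BSW

end Cfsg.Agent.P3
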