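import Cfsg.Agent.P3.Char3
import Cfsg.Agent.FT.Final
import Cfsg.Agent.H5.Kegel
import Cfsg.Agent.H1.PStd

/-! Brauer–Suzuki–Wall, odd case: the Sylow `p`-subgroup of order `q` is abelian and TI. -/

set_option autoImplicit false

namespace Cfsg.Agent.P3

open Cfsg Subgroup Cfsg.Agent.L Cfsg.Agent.FT

universe u

/-- The centralizer of every element of order `p` has exponent `p`. -/
def PP (p : ℕ) (G : Type*) [Group G] : Prop :=
  ∀ g d : G, d ≠ 1 → d ^ p = 1 → Commute g d → g ^ p = 1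

variable {G : Type u} [Group G] {p : ℕ}

theorem PP.subgroup (h : PP p G) (M : Subgroup G) : PP p M := fun g d h1 h2 h3 =>
  Subtype.ext (h g d (fun e => h1 (Subtype.ext e)) (congrArg Subtype.val h2)
    (congrArg Subtype.val h3))

variable [Finite G]

theorem PP.pow_of_dvd (h : PP p G) (hp : p.Prime) {g : G} (hg : p ∣ orderOf g) : g ^ p = 1 := by
  obtain ⟨m, hm⟩ := hg
  have h0 := orderOf_pos g
  refine h g (g ^ m) (pow_ne_one_of_lt_orderOf (by rintro rfl; omega) ?_) ?_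
    (Commute.self_pow g m)
  · have := hp.two_le
    have : 0 < m := Nat.pos_of_ne_zero (by rintro rfl; omega)
    nlinarith
  · rw [← pow_mul, mul_comm, ← hm, pow_orderOf_eq_one]

theorem PP.pow_of_isPGroup (h : PP p G) (hp : p.Prime) {A : Subgroup G} (hA : IsPGroup p A)
    {g : G} (hg : g ∈ A) : g ^ p = 1 := by
  have := Fact.mk hp
  obtain ⟨k, hk⟩ := IsPGroup.iff_orderOf.1 hA ⟨g, hg⟩
  rw [orderOf_mk] at hk
  rcases k with _ | k
  · rw [orderOf_eq_one_iff.1 hk, one_pow]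
  · exact h.pow_of_dvd hp (hk ▸ dvd_pow_self p k.succ_ne_zero)

theorem PP.isPGroup_of_notMem (h : PP p G) (hp : p.Prime) (H : Subgroup G) [H.Normal] {d y : G}
    (hd : d ∈ H) (hd1 : d ≠ 1) (hdp : d ^ p = 1) (hy : y ∉ H) (hyp : y ^ p = 1) :
    IsPGroup p H := by
  have := Fact.mk hp
  have hnil := H5.isNilpotent_of_coset_pow hp H y (by rw [normalizer_eq_top]; trivial) (by
    intro g hg
    refine h.pow_of_dvd hp (Dvd.dvd.trans ?_ (orderOf_map_dvd (QuotientGroup.mk' H) _))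
    rw [map_mul, QuotientGroup.mk'_apply, QuotientGroup.mk'_apply,
      (QuotientGroup.eq_one_iff g).2 hg, one_mul,
      orderOf_eq_prime (by rw [← QuotientGroup.mk_pow, hyp, QuotientGroup.mk_one])
        (by rwa [Ne, QuotientGroup.eq_one_iff])])
  rw [← isPiSubgroup_singleton_iff hp]
  intro r hr hrd
  by_contra hne
  have := Fact.mk hr
  obtain ⟨⟨w, hw⟩, hw2⟩ := exists_prime_orderOf_dvd_card' r hrd
  rw [orderOf_mk] at hw2
  have h1 := le_cent_of_coprime_of_isNilpotent hnil (zpowers_le_of_mem hw) (zpowers_le_of_mem hd)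
    (by rw [Nat.card_zpowers, Nat.card_zpowers, hw2, orderOf_eq_prime hdp hd1]
        exact (Nat.coprime_primes hr hp).2 hne)
  have h2 := h w d hd1 hdp (mem_cent.1 (h1 (mem_zpowers w)) d (mem_zpowers d)).symm
  exact hne ((Nat.prime_dvd_prime_iff_eq hr hp).1 (hw2 ▸ orderOf_dvd_of_pow_eq_one h2))

theorem PP.mem_pCore (h : PP p G) (hp : p.Prime) (hp2 : p ≠ 2) (hD : pCore p G ≠ ⊥) {y : G}
    (hyp : y ^ p = 1) : y ∈ pCore p G := by
  have := Fact.mk hp
  by_contra hy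
  have := pCore_characteristic (G := G) hp
  set D := pCore p G with hDdef
  have hDp : ∀ a ∈ D, a ^ p = 1 := fun a ha => h.pow_of_isPGroup hp (isPGroup_pCore p) ha
  obtain ⟨⟨d, hd⟩, hd1⟩ := ne_bot_iff_exists_ne_one.1 hD
  have hd1 : d ≠ 1 := fun e => hd1 (Subtype.ext e)
  have hL : pPrimeCore p (G ⧸ D) ≠ ⊥ := by
    intro hL
    rcases Nat.even_or_odd (Nat.card G) with h2 | h2
    · have : Fact (Nat.Prime 2) := ⟨Nat.prime_two⟩
      obtain ⟨u, hu⟩ := exists_prime_orderOf_dvd_card' 2 (even_iff_two_dvd.1 h2)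
      have huu : u * u = 1 := by rw [← sq, ← hu, pow_orderOf_eq_one]
      have hup : u ^ p ≠ 1 := fun e => hp2
        ((Nat.prime_dvd_prime_iff_eq Nat.prime_two hp).1 (hu ▸ orderOf_dvd_of_pow_eq_one e)).symm
      have hinv := inverts_of_fpf (A := D) huu (by rw [normalizer_eq_top]; trivial)
        fun a ha hc => by
          by_contra h1; exact hup (h u a h1 (hDp a ha) hc)
      have hC : 𝐂(D) ≤ D := le_pCore inferInstance fun c =>
        ⟨1, Subtype.ext (by simpa using h c d hd1 (hDp d hd) (mem_cent.1 c.2 d hd).symm)⟩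
      have hcen : (u : G ⧸ D) ∈ center (G ⧸ D) := by
        rw [mem_center_iff]
        intro m
        obtain ⟨m, rfl⟩ := QuotientGroup.mk_surjective m
        rw [← QuotientGroup.mk_mul, ← QuotientGroup.mk_mul, QuotientGroup.eq]
        apply hC
        rw [mem_cent]
        intro a ha
        have h1 := hinv _ (Normal.conj_mem inferInstance _ (inv_mem (Normal.conj_mem inferInstance
          a ha u)) m)
        have h2 := hinv a ha
        have hui := inv_eq_self_of_mul_self huu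
        rw [hui, h2, inv_inv] at h1
        rw [mul_inv_rev, hui]
        calc a * (u * m⁻¹ * (u * m)) = u * (u * a * u) * m⁻¹ * u * m := by
              simp only [← mul_assoc, huu, one_mul]
          _ = u * m⁻¹ * (m * a * m⁻¹)⁻¹ * u * m := by rw [h2]; group
          _ = u * m⁻¹ * (u * m) * a * (m⁻¹ * (u * u) * m) := by rw [← h1]; group
          _ = u * m⁻¹ * (u * m) * a := by rw [huu]; group
      have h3 : zpowers (u : G ⧸ D) ≤ pPrimeCore p (G ⧸ D) := le_pPrimeCore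
        ⟨fun n hn g => by
          rwa [mem_center_iff.1 (zpowers_le_of_mem hcen hn) g, mul_inv_cancel_right]⟩ (by
          rw [Nat.card_zpowers]
          refine Nat.Coprime.coprime_dvd_left (orderOf_map_dvd (QuotientGroup.mk' D) u) ?_
          rw [hu]; exact (Nat.coprime_primes Nat.prime_two hp).2 hp2.symm)
      have h4 := h3 (mem_zpowers _)
      rw [hL, mem_bot, QuotientGroup.eq_one_iff] at h4
      exact hup (hDp u h4)
    · have := feit_thompson G h2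
      have h3 := H1.subsingleton_of_cores hp (isPSolvable_of_isSolvable (G := G ⧸ D) hp)
        (pCore_quotient_pCore hp) hL
      exact hy ((QuotientGroup.eq_one_iff y).1 (Subsingleton.elim _ _))
  have := pPrimeCore_characteristic (G := G ⧸ D) hp
  refine hL (eq_bot_of_comap_mk'_eq (le_pCore inferInstance (h.isPGroup_of_notMem hp _ (d := d)
    ?_ hd1 (hDp d hd) (fun h1 => ?_) hyp)))
  · rw [mem_comap, QuotientGroup.mk'_apply, (QuotientGroup.eq_one_iff d).2 hd]; exact one_mem _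
  · refine not_dvd_card_pPrimeCore (G := G ⧸ D) hp ?_
    exact (orderOf_eq_prime (x := (y : G ⧸ D)) (p := p)
      (by rw [← QuotientGroup.mk_pow, hyp, QuotientGroup.mk_one])
      (by rwa [Ne, QuotientGroup.eq_one_iff])).symm.dvd.trans (orderOf_dvd_natCard _ h1)

/-- If centralizers of elements of odd prime order `p` have exponent `p`, the Sylow
`p`-subgroups are TI. -/
theorem PP.sylow_inf_eq_bot (h : PP p G) (hp : p.Prime) (hp2 : p ≠ 2) {P Q : Subgroup G}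
    (hP : IsSyl p P ⊤) (hQ : IsSyl p Q ⊤) (hne : P ≠ Q) : P ⊓ Q = ⊥ := by
  induction hn : (P ⊓ Q).index using Nat.strong_induction_on generalizing P Q with
  | _ n ih =>
  by_contra hD
  set D := P ⊓ Q
  have hDp : IsPGroup p D := hP.pgrp.to_le inf_le_left
  have h1 : pCore p 𝐍(D) ≠ ⊥ := fun e => hD (by
    have := le_pCoreOf (p := p) (N := D) (H := 𝐍(D)) ⟨le_normalizer, le_rfl⟩ hDp
    rwa [pCoreOf, e, Subgroup.map_bot, le_bot_iff] at this)
  obtain ⟨S, hS, hTS⟩ := exists_isSyl_ge hp (H2.isPGroup_pCoreOf p 𝐍(D)) le_top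
  have key : ∀ R, IsSyl p R ⊤ → D < R → R = S := by
    intro R hR hlt
    by_contra h2
    have h3 := lt_inf_norm_of_isNilpotent (isNilpotent_of_isPGroup hp hR.pgrp) hlt
    have h4 : R ⊓ 𝐍(D) ≤ R ⊓ S := fun y hy => ⟨hy.1, hTS ⟨⟨y, hy.2⟩,
      (h.subgroup _).mem_pCore hp hp2 h1 (Subtype.ext (h.pow_of_isPGroup hp hR.pgrp hy.1)), rfl⟩⟩
    have h5 := h3.trans_le h4
    rw [ih _ (hn ▸ index_strictAnti h5) hR hS h2 rfl] at h5
    exact not_lt_bot h5
  exact hne ((key P hP (inf_lt_left.2 fun e => hne (hP.eq_of_le hp e le_top hQ.pgrp).symm)).trans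
    (key Q hQ (inf_lt_right.2 fun e => hne (hQ.eq_of_le hp e le_top hP.pgrp))).symm)

namespace P0Data

variable {q : ℕ} {P₀ : Set G}

omit [Finite G] in
theorem two_card (h : P0Data G q P₀) : 2 * Nat.card G = q * P₀.ncard := by
  have h1 := h.card
  rw [pow_succ, ← h.ncard] at h1
  linarith

omit [Finite G] in
theorem ncard_pos (h : P0Data G q P₀) : 0 < P₀.ncard := by
  have h1 := h.ncard
  have h2 := h.one_lt
  nlinarith

omit [Finite G] in
theorem ne_one (h : P0Data G q P₀) {g : G} (hg : g ∈ P₀) : g ≠ 1 := fun e =>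
  h.one_notMem (e ▸ hg)

omit [Finite G] in
theorem mem_of_dvd (h : P0Data G q P₀) {r : ℕ} (hr : r.Prime) (hq : r ∣ q) {g : G} (h1 : g ≠ 1)
    (hg : r ∣ 𝐨(𝐂[g])) : g ∈ P₀ := by
  by_contra h2
  exact hr.ne_one (Nat.eq_one_of_dvd_coprimes (h.coprime g h1 h2) hg hq)

theorem conj_mem (h : P0Data G q P₀) {g g' : G} (hg : g ∈ P₀) (hc : IsConj g g') : g' ∈ P₀ := by
  by_contra h2
  have h3 := h.coprime g' (fun e => h.ne_one hg (by simpa [e] using hc)) h2
  rw [card_centralizer_of_isConj hc] at h3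
  have h4 := card_eq_one.1 (Nat.eq_one_of_dvd_coprimes h3 dvd_rfl (h.dvd g hg))
  exact h.ne_one hg (by simpa [h4] using mem_cent1.2 (rfl : g * g = g * g))

theorem class_card (h : P0Data G q P₀) {g : G} (hg : g ∈ P₀) :
    𝐨(𝐂[g]) = q ∧ 2 * {x | IsConj g x}.ncard = P₀.ncard := by
  obtain ⟨m, hm⟩ := h.dvd g hg
  have h1 := ncard_isConj_mul_card_centralizer g
  have h2 := h.two_card
  have h3 : {x | IsConj g x}.ncard ≤ P₀.ncard := Set.ncard_le_ncard fun x hx => h.conj_mem hg hx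
  have h4 : 2 * {x | IsConj g x}.ncard = m * P₀.ncard :=
    Nat.eq_of_mul_eq_mul_left (Nat.card_pos (α := 𝐂[g])) (by rw [← mul_assoc, ← mul_assoc, ← hm, ← h2, ← h1]; ring)
  have h5 : Odd m := h.odd.of_dvd_nat (Dvd.intro_left _ hm.symm)
  have h6 := h.ncard_pos
  have h7 : m ≤ 2 := by nlinarith
  obtain rfl : m = 1 := by rw [Nat.odd_iff] at h5; omega
  exact ⟨by omega, by omega⟩

theorem isConj_or (h : P0Data G q P₀) {a b c : G} (ha : a ∈ P₀) (hb : b ∈ P₀) (hc : c ∈ P₀)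
    (hab : ¬ IsConj a b) : IsConj a c ∨ IsConj b c := by
  have h1 : {x | IsConj a x} ∪ {x | IsConj b x} = P₀ := by
    refine Set.eq_of_subset_of_ncard_le (Set.union_subset (fun x hx => h.conj_mem ha hx)
      fun x hx => h.conj_mem hb hx) ?_
    have hd : Disjoint {x | IsConj a x} {x | IsConj b x} :=
      Set.disjoint_left.2 fun x h1 h2 => hab (IsConj.trans h1 (IsConj.symm h2))
    rw [Set.ncard_union_eq hd]
    have := (h.class_card ha).2
    have := (h.class_card hb).2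
    omega
  rwa [← h1] at hc

theorem exists_prime_pow (h : P0Data G q P₀) : ∃ p f : ℕ, p.Prime ∧ q = p ^ f := by
  have hq : q ∣ Nat.card G := (Nat.coprime_two_right.2 h.odd).dvd_of_dvd_mul_left ⟨_, h.two_card⟩
  have hp := Nat.minFac_prime h.one_lt.ne'
  refine ⟨q.minFac, _, hp, Nat.eq_prime_pow_of_unique_prime_dvd (by have := h.one_lt; omega) ?_⟩
  intro r hr hrq
  by_contra hne
  have := Fact.mk hp
  have := Fact.mk hr
  obtain ⟨a, ha⟩ := exists_prime_orderOf_dvd_card' _ (q.minFac_dvd.trans hq)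
  have hmem : ∀ g : G, ∀ r' : ℕ, r'.Prime → r' ∣ q → r' ∣ orderOf g → g ∈ P₀ :=
    fun g r' h1 h2 h3 => h.mem_of_dvd h1 h2 (by rintro rfl; exact h1.ne_one (by simpa using h3))
      (h3.trans (orderOf_dvd_natCard _ (mem_cent1.2 rfl)))
  have ha0 := hmem a _ hp q.minFac_dvd ha.symm.dvd
  obtain ⟨⟨b, hb⟩, hb2⟩ := exists_prime_orderOf_dvd_card' (G := 𝐂[a]) r
    (by rwa [(h.class_card ha0).1])
  rw [orderOf_mk] at hb2
  have hab : orderOf (a * b) = q.minFac * r := by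
    rw [Commute.orderOf_mul_eq_mul_orderOf_of_coprime (mem_cent1.1 hb)
      (by rw [ha, hb2]; exact (Nat.coprime_primes hp hr).2 (Ne.symm hne)), ha, hb2]
  have hc : ∀ x y : G, IsConj x y → orderOf x = orderOf y := fun x y e => by
    obtain ⟨c, rfl⟩ := isConj_iff.1 e
    exact (MulAut.conj c).orderOf_eq x |>.symm
  rcases h.isConj_or ha0 (hmem b r hr hrq hb2.symm.dvd)
    (hmem (a * b) r hr hrq (hab ▸ Dvd.intro_left _ rfl))
    (fun e => hne (by rw [← hb2, ← ha, hc _ _ e])) with e | e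
  · have := hc _ _ e
    rw [ha, hab] at this
    exact hr.ne_one (Nat.eq_of_mul_eq_mul_left hp.pos (by omega))
  · have := hc _ _ e
    rw [hb2, hab] at this
    exact hp.ne_one (Nat.eq_of_mul_eq_mul_right hr.pos (by omega))

theorem isSyl_of_card (h : P0Data G q P₀) (hp : p.Prime) {f : ℕ} (hq : q = p ^ f)
    {P : Subgroup G} (hP : 𝐨(P) = q) : IsSyl p P ⊤ := by
  have := Fact.mk hp
  refine ⟨le_top, IsPGroup.of_card (hP.trans hq), fun hd => ?_⟩
  have h1 := h.one_lt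
  have h2 : 2 * P.index = P₀.ncard := Nat.eq_of_mul_eq_mul_left (by omega : 0 < q)
    (by rw [← h.two_card, ← P.card_mul_index, hP]; ring)
  rw [relIndex_top_right] at hd
  have h3 : p ∣ q := hq ▸ dvd_pow_self p (by rintro rfl; simp at hq; omega)
  have h4 : p ∣ P₀.ncard + 1 := h.ncard ▸ h3.trans (dvd_pow_self q two_ne_zero)
  exact hp.ne_one (Nat.dvd_one.1 ((Nat.dvd_add_right (h2 ▸ hd.mul_left 2)).1 h4))

theorem pp (h : P0Data G q P₀) (hp : p.Prime) {f : ℕ} (hq : q = p ^ f) : PP p G := by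
  have := Fact.mk hp
  have hq1 := h.one_lt
  have hpq : p ∣ q := hq ▸ dvd_pow_self p (by rintro rfl; simp at hq; omega)
  intro g d hd1 hdp hgd
  by_contra hgp
  have hd0 : d ∈ P₀ := h.mem_of_dvd hp hpq hd1
    (orderOf_eq_prime hdp hd1 ▸ orderOf_dvd_natCard _ (mem_cent1.2 rfl))
  have hg0 : g ∈ P₀ := h.mem_of_dvd hp hpq (by rintro rfl; simp at hgp)
    (orderOf_eq_prime hdp hd1 ▸ orderOf_dvd_natCard _ (mem_cent1.2 hgd))
  set P := 𝐂[d] with hPdef
  have hPc : 𝐨(P) = q := (h.class_card hd0).1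
  have hP := h.isSyl_of_card hp hq hPc
  have hZ : ∀ z ∈ 𝐙(P), z ≠ 1 → z ∈ P₀ ∧ 𝐂[z] = P := fun z hz h1 => by
    have h2 : P ≤ 𝐂[z] := mem_cent_iff_cent1.1 hz.2
    have h3 := h.mem_of_dvd hp hpq h1 ((hPc ▸ hpq).trans (FT.card_dvd_of_le h2))
    exact ⟨h3, (eq_of_le_of_card_ge h2 (by rw [(h.class_card h3).1, hPc])).symm⟩
  have hdZ : d ∈ 𝐙(P) := ⟨mem_cent1.2 rfl, mem_cent_iff_cent1.2 le_rfl⟩
  have hcount : ∀ W : Subgroup G, W ≤ 𝐙(P) → (∀ c ∈ 𝐍(P), ∀ w ∈ W, c * w * c⁻¹ ∈ W) →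
      {x | ∃ y ∈ sharp W, IsConj y x}.ncard * 𝐨(𝐍(P)) + Nat.card G = Nat.card G * 𝐨(W) := by
    intro W hW hn
    have h2 := sum_fs_sharp W (fun _ => (1 : ℕ))
    rw [sum_fs_const] at h2
    simp only [Finset.sum_const, smul_eq_mul, mul_one, card_fs] at h2
    rw [ncard_conj_mul_card (sharp W) 𝐍(P) (fun c hc y hy => ⟨hn c hc y hy.1, by simpa using hy.2⟩)
      (fun c y hy hc => by
        rw [← conj_eq_self_iff, ← (hZ y (hW hy.1) hy.2).2, ← cent1_conj, (hZ _ (hW hc.1) hc.2).2,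
          (hZ y (hW hy.1) hy.2).2]), h2]
    ring
  have hnZ : ∀ c ∈ 𝐍(P), ∀ w ∈ 𝐙(P), c * w * c⁻¹ ∈ 𝐙(P) := fun c hc w hw =>
    (mem_normalizer_iff.1 (norm_le_norm_center P hc) w).1 hw
  have hZc : IsMulCommutative (𝐙(P) : Subgroup G) :=
    isMulComm_iff_le_cent.2 (inf_le_right.trans (cent_anti inf_le_left))
  have c1 := hcount _ le_rfl hnZ
  have c2 := hcount (powKerIn 𝐙(P) p) (fun x hx => (mem_powKerIn.1 hx).1) fun c hc w hw =>
    mem_powKerIn.2 ⟨hnZ c hc w (mem_powKerIn.1 hw).1, by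
      rw [conj_pow, (mem_powKerIn.1 hw).2]; simp⟩
  have e1 : {x | ∃ y ∈ sharp 𝐙(P), IsConj y x} = P₀ := by
    refine Set.Subset.antisymm (fun x ⟨y, hy, e⟩ => h.conj_mem (hZ y hy.1 hy.2).1 e) fun x hx => ?_
    obtain ⟨c, -, hc⟩ := hP.exists_conj_eq hp (h.isSyl_of_card hp hq (h.class_card hx).1)
    rw [← cent1_conj] at hc
    exact ⟨c * x * c⁻¹, ⟨⟨hc ▸ mem_cent1.2 rfl, mem_cent_iff_cent1.2 hc.ge⟩,
      by simpa using h.ne_one hx⟩, (isConj_iff.2 ⟨c, rfl⟩).symm⟩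
  have hpow : ∀ x y : G, IsConj x y → x ^ p = 1 → y ^ p = 1 := fun x y e hx => by
    obtain ⟨c, rfl⟩ := isConj_iff.1 e
    rw [conj_pow, hx]; simp
  have e2 : {x | ∃ y ∈ sharp (powKerIn 𝐙(P) p), IsConj y x} = {x | IsConj d x} := by
    refine Set.Subset.antisymm (fun x ⟨y, hy, e⟩ => ?_)
      fun x hx => ⟨d, ⟨mem_powKerIn.2 ⟨hdZ, hdp⟩, hd1⟩, hx⟩
    have hy' := mem_powKerIn.1 hy.1
    refine ((h.isConj_or hd0 hg0 (hZ y hy'.1 hy.2).1 fun e => hgp (hpow _ _ e hdp)).resolve_right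
      fun e => hgp (hpow _ _ e.symm hy'.2)).trans e
  rw [e1, ← (h.class_card hd0).2] at c1
  rw [e2] at c2
  have e3 : 𝐨(𝐙(P)) + 1 = 2 * 𝐨(powKerIn 𝐙(P) p) :=
    Nat.eq_of_mul_eq_mul_left (Nat.card_pos (α := G)) (by linarith)
  have d1 : p ∣ 𝐨(powKerIn 𝐙(P) p) :=
    (orderOf_eq_prime hdp hd1).symm.dvd.trans (orderOf_dvd_natCard _ (mem_powKerIn.2 ⟨hdZ, hdp⟩))
  have d2 : p ∣ 𝐨(𝐙(P)) := orderOf_eq_prime hdp hd1 ▸ orderOf_dvd_natCard _ hdZ
  exact hp.ne_one (Nat.dvd_one.1 ((Nat.dvd_add_right d2).1 (e3 ▸ d1.mul_left 2)))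

theorem exists_sylow (h : P0Data G q P₀) : ∃ P : Subgroup G, 𝐨(P) = q ∧
    (∀ u ∈ P, u ≠ 1 → 𝐂[u] = P) ∧ 2 * 𝐨(𝐍(P)) + q = q ^ 2 := by
  obtain ⟨p, f, hp, hq⟩ := h.exists_prime_pow
  have hq1 := h.one_lt
  have hpq : p ∣ q := hq ▸ dvd_pow_self p (by rintro rfl; simp at hq; omega)
  have hp2 : p ≠ 2 := by
    rintro rfl
    exact (Nat.not_even_iff_odd.2 h.odd) (even_iff_two_dvd.2 hpq)
  obtain ⟨d, hd⟩ := Set.nonempty_of_ncard_ne_zero h.ncard_pos.ne'
  set P := 𝐂[d]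
  have hPc : 𝐨(P) = q := (h.class_card hd).1
  have hP := h.isSyl_of_card hp hq hPc
  have hu0 : ∀ u ∈ P, u ≠ 1 → u ∈ P₀ := fun u hu h1 => by
    have := Fact.mk hp
    exact h.mem_of_dvd hp hpq h1 (orderOf_eq_prime ((h.pp hp hq).pow_of_isPGroup hp hP.pgrp hu) h1
      ▸ orderOf_dvd_natCard _ (mem_cent1.2 rfl))
  have hC : ∀ u ∈ P, u ≠ 1 → 𝐂[u] = P := fun u hu h1 => by
    by_contra hne
    have := (h.pp hp hq).sylow_inf_eq_bot hp hp2
      (h.isSyl_of_card hp hq (h.class_card (hu0 u hu h1)).1) hP hne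
    exact h1 (mem_bot.1 (this ▸ ⟨mem_cent1.2 rfl, hu⟩))
  refine ⟨P, hPc, hC, ?_⟩
  have h2 := sum_fs_sharp P (fun _ => (1 : ℕ))
  rw [sum_fs_const] at h2
  simp only [Finset.sum_const, smul_eq_mul, mul_one, card_fs] at h2
  have h3 := ncard_conj_mul_card (sharp P) 𝐍(P)
    (fun c hc y hy => ⟨(mem_normalizer_iff.1 hc y).1 hy.1, by simpa using hy.2⟩)
    (fun c y hy hc => by
      rw [← conj_eq_self_iff, ← hC y hy.1 hy.2, ← cent1_conj, hC _ hc.1 hc.2, hC y hy.1 hy.2])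
  have e1 : {x | ∃ y ∈ sharp P, IsConj y x} = P₀ := by
    refine Set.Subset.antisymm (fun x ⟨y, hy, e⟩ => h.conj_mem (hu0 y hy.1 hy.2) e) fun x hx => ?_
    obtain ⟨c, -, hc⟩ := hP.exists_conj_eq hp (h.isSyl_of_card hp hq (h.class_card hx).1)
    rw [← cent1_conj] at hc
    exact ⟨c * x * c⁻¹, ⟨hc ▸ mem_cent1.2 rfl, by simpa using h.ne_one hx⟩,
      (isConj_iff.2 ⟨c, rfl⟩).symm⟩
  rw [e1] at h3
  refine Nat.eq_of_mul_eq_mul_left h.ncard_pos ?_
  have h4 := h.two_card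
  rw [hPc] at h2
  calc P₀.ncard * (2 * 𝐨(𝐍(P)) + q) = 2 * Nat.card G * (sharp P).ncard + q * P₀.ncard := by
        rw [mul_assoc, ← h3]; ring
    _ = P₀.ncard * q ^ 2 := by rw [h4, sq]; nth_rewrite 4 [h2]; ring

end P0Data

end Cfsg.Agent.P3
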