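import Cfsg.Agent.P1.Defs
import Cfsg.Agent.L.Invol
import Cfsg.Agent.FT.P.CH2_2

/-! The hypothesis of the Brauer–Suzuki–Wall theorem (odd case) and first consequences. -/

set_option autoImplicit false

namespace Cfsg.Agent.P3

open Cfsg Subgroup Cfsg.Agent.L Cfsg.Agent.FT
open scoped ComplexConjugate

universe u

variable {G : Type u} [Group G]

/-- `K` is abelian with unique involution `t`, inverted by the involution `s ∉ K`,
`C(t) = K⟨s⟩`, `C(x) ≤ K` for `x ∈ K` with `x² ≠ 1`, all involutions are conjugate. -/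
structure BSW (K : Subgroup G) (t s : G) : Prop where
  comm : IsMulCommutative K
  tK : t ∈ K
  t1 : t ≠ 1
  tt : t * t = 1
  uniq : ∀ x ∈ K, x * x = 1 → x = 1 ∨ x = t
  sK : s ∉ K
  ss : s * s = 1
  inv : ∀ x ∈ K, s * x * s = x⁻¹
  centt : ∀ g, Commute t g → g ∈ K ∨ s * g ∈ K
  cent : ∀ x ∈ K, x * x ≠ 1 → ∀ g, Commute x g → g ∈ K
  isConj : ∀ u : G, u ≠ 1 → u * u = 1 → IsConj t u

namespace BSW

variable {K : Subgroup G} {t s : G}

theorem commute (h : BSW K t s) {x y : G} (hx : x ∈ K) (hy : y ∈ K) : Commute x y :=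
  congrArg Subtype.val (h.comm.is_comm.comm (⟨x, hx⟩ : K) ⟨y, hy⟩)

theorem K_le (h : BSW K t s) : K ≤ 𝐂[t] := fun _ hx => mem_cent1.2 (h.commute h.tK hx)

theorem s_mem (h : BSW K t s) : s ∈ 𝐂[t] := by
  rw [mem_cent1_iff_conj, inv_eq_self_of_mul_self h.ss, h.inv t h.tK,
    inv_eq_self_of_mul_self h.tt]

theorem s1 (h : BSW K t s) : s ≠ 1 := fun e => h.sK (e ▸ one_mem K)

theorem mem_N (h : BSW K t s) {g : G} : g ∈ 𝐂[t] ↔ g ∈ K ∨ s * g ∈ K :=
  ⟨fun hg => h.centt g (mem_cent1.1 hg), fun hg => hg.elim (fun hg => h.K_le hg) fun hg =>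
    (Subgroup.mul_mem_cancel_left _ h.s_mem).1 (h.K_le hg)⟩

theorem s_mul_s_mul (h : BSW K t s) (g : G) : s * (s * g) = g := by
  rw [← mul_assoc, h.ss, one_mul]

theorem coset_notMem (h : BSW K t s) {g : G} (hg : s * g ∈ K) : g ∉ K := fun h1 =>
  h.sK ((Subgroup.mul_mem_cancel_right _ h1).1 hg)

theorem coset_ne_one (h : BSW K t s) {g : G} (hg : s * g ∈ K) : g ≠ 1 := fun e =>
  h.coset_notMem hg (e ▸ one_mem K)

theorem coset_inv (h : BSW K t s) {g x : G} (hg : s * g ∈ K) (hx : x ∈ K) :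
    g * x * g⁻¹ = x⁻¹ := by
  have e : g * x * g⁻¹ = s * ((s * g) * x * (s * g)⁻¹) * s := by
    rw [mul_inv_rev, inv_eq_self_of_mul_self h.ss]
    simp only [← mul_assoc, h.ss, one_mul]
    rw [mul_assoc _ s s, h.ss, mul_one]
  rw [e, (h.commute hg hx).eq, mul_inv_cancel_right, h.inv x hx]

theorem coset_sq (h : BSW K t s) {g : G} (hg : s * g ∈ K) : g * g = 1 := by
  have := h.inv _ hg
  rw [h.s_mul_s_mul, mul_inv_rev, inv_eq_self_of_mul_self h.ss, mul_left_inj] at this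
  exact mul_eq_one_iff_eq_inv.2 this

theorem coset_mul (h : BSW K t s) {g g' : G} (hg : s * g ∈ K) (hg' : s * g' ∈ K) :
    g * g' ∈ K := by
  have := mul_mem (inv_mem hg) hg'
  rwa [mul_inv_rev, mul_assoc, inv_mul_cancel_left, inv_eq_self_of_mul_self (h.coset_sq hg)] at this

theorem N_le_norm (h : BSW K t s) : 𝐂[t] ≤ 𝐍(K) := by
  have key : ∀ g ∈ 𝐂[t], ∀ x ∈ K, g * x * g⁻¹ ∈ K := fun g hg x hx => by
    rcases h.mem_N.1 hg with h1 | h1
    · exact mul_mem (mul_mem h1 hx) (inv_mem h1)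
    · rw [h.coset_inv h1 hx]; exact inv_mem hx
  intro g hg
  rw [mem_normalizer_iff]
  refine fun x => ⟨key g hg x, fun hx => ?_⟩
  simpa [mul_assoc] using key g⁻¹ (inv_mem hg) _ hx

theorem cent_le_N (h : BSW K t s) {x : G} (hx : x ∈ K) (h1 : x ≠ 1) : 𝐂[x] ≤ 𝐂[t] := by
  by_cases h2 : x * x = 1
  · rw [(h.uniq x hx h2).resolve_left h1]
  · exact fun g hg => h.K_le (h.cent x hx h2 g (mem_cent1.1 hg))

theorem ti (h : BSW K t s) {x g : G} (hx : x ∈ K) (h1 : x ≠ 1) (hg : g * x * g⁻¹ ∈ K) :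
    g ∈ 𝐂[t] := by
  have ht : g * t * g⁻¹ * (g * t * g⁻¹) = 1 := by
    rw [conj_mul, h.tt, mul_one, mul_inv_cancel]
  rw [mem_cent1_iff_conj]
  refine (h.uniq _ ?_ ht).resolve_left (by simpa using h.t1)
  by_cases h2 : x * x = 1
  · rwa [(h.uniq x hx h2).resolve_left h1] at hg
  · refine h.cent _ hg (by rw [conj_mul]; simpa using h2) _ ?_
    exact (h.commute hx h.tK).conj g

theorem normedTI (h : BSW K t s) : NormedTI (sharp K) ⊤ 𝐂[t] :=
  ⟨⟨t, h.tK, h.t1⟩, fun h1 => h1.2 rfl, fun _ hx => h.K_le hx.1, le_top,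
    fun g hg a ha => ⟨(mem_normalizer_iff.1 (h.N_le_norm hg) a).1 ha.1, by simpa using ha.2⟩,
    fun _ _ _ ha hc => h.ti ha.1 ha.2 hc.1⟩

variable [Finite G]

theorem sum_coset (h : BSW K t s) {M : Type*} [AddCommMonoid M] (f : G → M) :
    ∑ g ∈ fs {g | s * g ∈ K}, f g = ∑ x ∈ fs (K : Set G), f (s * x) := by
  refine (sum_fs_bij (fun x => s * x) ⟨fun x hx => ?_, fun x _ y _ e => mul_left_cancel e,
    fun g hg => ⟨s * g, hg, h.s_mul_s_mul g⟩⟩ f).symm
  change s * (s * x) ∈ K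
  rwa [h.s_mul_s_mul]

theorem sum_N (h : BSW K t s) {M : Type*} [AddCommMonoid M] (f : G → M) :
    ∑ g ∈ fs (𝐂[t] : Set G), f g =
      ∑ x ∈ fs (K : Set G), f x + ∑ x ∈ fs (K : Set G), f (s * x) := by
  have : ((𝐂[t] : Subgroup G) : Set G) = (K : Set G) ∪ {g | s * g ∈ K} := Set.ext fun g => h.mem_N
  have hd : Disjoint (K : Set G) {g | s * g ∈ K} :=
    Set.disjoint_left.2 fun g h1 h2 => h.coset_notMem h2 h1
  rw [this, sum_fs_union hd, h.sum_coset]

theorem card_N (h : BSW K t s) : 𝐨(𝐂[t]) = 2 * 𝐨(K) := by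
  have := h.sum_N (fun _ => (1 : ℕ))
  simp only [sum_fs_const, smul_eq_mul, mul_one] at this
  omega

theorem two_dvd (h : BSW K t s) : 2 ∣ 𝐨(K) := by
  rw [← orderOf_eq_prime (show t ^ 2 = 1 by rw [sq, h.tt]) h.t1]
  exact K.orderOf_dvd_natCard h.tK

theorem odd_index (h : BSW K t s) : Odd (𝐂[t] : Subgroup G).index := by
  obtain ⟨S, hS⟩ := exists_isSyl Nat.prime_two (⊤ : Subgroup G)
  have : Fact (Nat.Prime 2) := ⟨Nat.prime_two⟩
  have hne : S ≠ ⊥ := hS.ne_bot Nat.prime_two (h.two_dvd.trans (FT.card_dvd_of_le le_top))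
  have : Nontrivial S := (nontrivial_iff_ne_bot S).2 hne
  have := hS.pgrp.center_nontrivial
  obtain ⟨z, hz⟩ := exists_prime_orderOf_dvd_card' (G := center S) 2
    ((hS.pgrp.to_subgroup _).card_eq_or_dvd.resolve_left Finite.one_lt_card.ne')
  have hz' : orderOf ((z : S) : G) = 2 := by rw [orderOf_coe, orderOf_coe, hz]
  have h1 := h.isConj ((z : S) : G) (by rintro e; simp [e] at hz')
    (by rw [← sq, ← hz', pow_orderOf_eq_one])
  have h2 : S ≤ 𝐂[((z : S) : G)] := fun y hy => mem_cent1.2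
    (congrArg Subtype.val (mem_center_iff.1 z.2 ⟨y, hy⟩)).symm
  have h3 : (𝐂[((z : S) : G)] : Subgroup G).index = (𝐂[t] : Subgroup G).index := by
    have a := (𝐂[((z : S) : G)] : Subgroup G).card_mul_index
    rw [card_centralizer_of_isConj h1, ← (𝐂[t] : Subgroup G).card_mul_index] at a
    exact Nat.eq_of_mul_eq_mul_left Nat.card_pos a
  rw [← h3, ← Nat.not_even_iff_odd, even_iff_two_dvd]
  exact fun hd => hS.ndvd (by rw [relIndex_top_right]; exact hd.trans (index_dvd_of_le h2))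

/-- `K` has exactly one real nonprincipal character. -/
theorem exists_real (h : BSW K t s) : ∃ l ∈ Irr K, l ≠ cf1 K ∧ star l = l ∧
    ∀ α ∈ Irr K, star α = α → α = cf1 K ∨ α = l := by
  let _ : CommGroup K := { (inferInstance : Group K) with mul_comm := h.comm.is_comm.comm }
  let K2 : Subgroup G := (powMonoidHom 2 : K →* K).range.map K.subtype
  have hK2 : K2 ≤ K := map_subtype_le _
  have hmem : ∀ α ∈ Irr K, α ∈ irrKer K K2 ↔ star α = α := by
    intro α hα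
    have hl := isLin_of_comm h.comm hα
    rw [mem_irrKer]
    constructor
    · rintro ⟨-, h1⟩
      refine CF_ext hl.star.mem_CF hl.mem_CF fun x hx => ?_
      have h2 := hl.mem_cfKer_iff.1 (h1 ⟨_, ⟨⟨x, hx⟩, rfl⟩, rfl⟩)
      have h3 : α (x ^ 2) = 1 := h2
      rw [hl.pow_apply hx, sq, ← hl.mul_conj hx] at h3
      exact (mul_left_cancel₀ (hl.ne_zero hx) h3).symm
    · refine fun h1 => ⟨hα, ?_⟩
      rintro _ ⟨_, ⟨x, rfl⟩, rfl⟩
      rw [hl.mem_cfKer_iff]
      change α (x ^ 2) = 1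
      rw [hl.pow_apply x.2, sq, ← hl.mul_conj x.2, ← star_apply', h1]
  have hcard : (irrKer K K2).card = 2 := by
    rw [card_irrKer_of_der_le (by
      rw [commutator_eq_bot_iff_le_centralizer.2 (isMulComm_iff_le_cent.1 h.comm)]
      exact bot_le) hK2]
    have e : K2.subgroupOf K = (powMonoidHom 2 : K →* K).range :=
      comap_map_eq_self_of_injective K.subtype_injective _
    rw [relIndex, e, index_range, Nat.card_eq_two_iff' (1 : (powMonoidHom 2 : K →* K).ker)]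
    refine ⟨⟨⟨t, h.tK⟩, Subtype.ext (show t ^ 2 = 1 by rw [sq, h.tt])⟩,
      fun e => h.t1 (congrArg (fun x => ((x.1 : K) : G)) e), ?_⟩
    rintro ⟨⟨x, hx⟩, h2⟩ h3
    have h4 : x ^ 2 = 1 := congrArg Subtype.val h2
    rcases h.uniq x hx (by rw [← sq, h4]) with rfl | rfl
    · exact absurd rfl h3
    · rfl
  have h1 := cf1_mem_irrKer hK2
  obtain ⟨l, hl, hl1⟩ := Finset.exists_mem_ne (by omega : 1 < (irrKer K K2).card) (cf1 K)
  have hlI := irrKer_subset _ _ hl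
  refine ⟨l, hlI, hl1, (hmem l hlI).1 hl, fun α hα hs => ?_⟩
  have h2 := (hmem α hα).2 hs
  by_contra hc
  push Not at hc
  have : 2 < (irrKer K K2).card := 
    Finset.two_lt_card_iff.2 ⟨α, cf1 K, l, h2, h1, hl, hc.1, hc.2, hl1.symm⟩
  omega

end BSW

end Cfsg.Agent.P3
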